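import Cfsg.Agent.S0000
import Cfsg.Agent.OrdDiv.Table
import Mathlib
import Cfsg.Agent.H435.P3.Qd_m3
import Cfsg.Agent.ClassicalGeometry.PSLTorus
import Cfsg.Agent.SmallSimple.SylowInter
import Cfsg.Agent.SporadicStructure.M24El
import Cfsg.Prelude.Def_Spor_Mathieu
import Cfsg.Agent.S0262
import Cfsg.Agent.Lib.Cores
import Cfsg.Agent.Lib.DihedralRecog
import Cfsg.Agent.H331.SCExc
import Cfsg.Agent.GH.L2Aut
import Cfsg.Agent.FastGrp
import Cfsg.Agent.Prune
set_option linter.all false

section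
prune_inst 0x7ffefcfbaff82ddfffff7e7ffefddffe3994dfffffdffb4bfffc79ffafdf230a1b65fb8f1de058ff1ef7e0be30b87853fb7eeeffee6bdc7ffffd5ff45ffbee1fe5f7bd8871d69c341f346fff83f07f8e7f3fffffffffffffffffffffffffffbeffffffffffff

-- part: H435/Cases
section
prune_inst 0x1030450075220000000000100200002430000000000000002820010209094248800208010a000000006010801040000811000010421000000a003000000601208023500212100c0ca00007801005000000000000000000000000000000000000000000000
set_option linter.all false
open scoped Cfsg.Agent.FastGrp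

/-!
# Known simple groups of order prime to 27 (helper435)

`not27`: the finite simple groups whose order is not divisible by 27.
`not45`: the finite simple groups whose order is divisible neither by 5 nor by 9.
-/

set_option autoImplicit false

namespace Cfsg.Agent.H435.Cases

open Cfsg

universe u

/-! ### arithmetic -/

theorem three_dvd {q : ℕ} (h : ¬ 3 ∣ q) (k : ℕ) : 3 ∣ q ^ (2 * k) - 1 := by
  have h1 : q ^ 2 ≡ 1 [MOD 3] := by
    have : q % 3 = 1 ∨ q % 3 = 2 := by omega
    rcases this with h | h <;> simp [Nat.ModEq, Nat.pow_mod, h]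
  have h2 : q ^ (2 * k) ≡ 1 [MOD 3] := by
    rw [pow_mul]
    simpa using h1.pow k
  have h3 : 1 ≤ q ^ (2 * k) := Nat.one_le_pow _ _ (by rcases Nat.eq_zero_or_pos q with h0 | h0; · simp [h0] at h
                                                      · exact h0)
  exact (Nat.modEq_iff_dvd' h3).1 h2.symm

theorem nine_dvd {q : ℕ} (h : ¬ 3 ∣ q) (k : ℕ) : 9 ∣ q ^ (6 * k) - 1 := by
  have h1 : q ^ 6 ≡ 1 [MOD 9] := by
    have : q % 9 = 1 ∨ q % 9 = 2 ∨ q % 9 = 4 ∨ q % 9 = 5 ∨ q % 9 = 7 ∨ q % 9 = 8 := by omega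
    rcases this with h | h | h | h | h | h <;> simp [Nat.ModEq, Nat.pow_mod, h]
  have h2 : q ^ (6 * k) ≡ 1 [MOD 9] := by
    rw [pow_mul]
    simpa using h1.pow k
  have h3 : 1 ≤ q ^ (6 * k) := Nat.one_le_pow _ _ (by rcases Nat.eq_zero_or_pos q with h0 | h0; · simp [h0] at h
                                                      · exact h0)
  exact (Nat.modEq_iff_dvd' h3).1 h2.symm

theorem five_dvd {q : ℕ} (h : ¬ 5 ∣ q) (k : ℕ) : 5 ∣ q ^ (4 * k) - 1 := by
  have h1 : q ^ 4 ≡ 1 [MOD 5] := by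
    have : q % 5 = 1 ∨ q % 5 = 2 ∨ q % 5 = 3 ∨ q % 5 = 4 := by omega
    rcases this with h | h | h | h <;> simp [Nat.ModEq, Nat.pow_mod, h]
  have h2 : q ^ (4 * k) ≡ 1 [MOD 5] := by
    rw [pow_mul]
    simpa using h1.pow k
  have h3 : 1 ≤ q ^ (4 * k) := Nat.one_le_pow _ _ (by rcases Nat.eq_zero_or_pos q with h0 | h0; · simp [h0] at h
                                                      · exact h0)
  exact (Nat.modEq_iff_dvd' h3).1 h2.symm

theorem pow_dvd_prod {q : ℕ} (h : ¬ 3 ∣ q) (m : ℕ) :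
    3 ^ m ∣ ∏ i ∈ Finset.range m, (q ^ (2 * (i + 1)) - 1) := by
  have h1 : (3 : ℕ) ^ m = ∏ _i ∈ Finset.range m, 3 := by rw [Finset.prod_const, Finset.card_range]
  rw [h1]
  exact Finset.prod_dvd_prod_of_dvd _ _ fun i _ => three_dvd h (i + 1)

/-- `27 ∣ q ^ a * ∏` as soon as `3 ≤ a` and `3 ≤ m` -/
theorem dvd27 {q a m : ℕ} (ha : 3 ≤ a) (hm : 3 ≤ m) :
    27 ∣ q ^ a * ∏ i ∈ Finset.range m, (q ^ (2 * (i + 1)) - 1) := by
  by_cases h : 3 ∣ q
  · apply Dvd.dvd.mul_right
    exact (show (27 : ℕ) = 3 ^ 3 by norm_num) ▸ (pow_dvd_pow 3 ha).trans (pow_dvd_pow_of_dvd h a)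
  · apply Dvd.dvd.mul_left
    exact (show (27 : ℕ) = 3 ^ 3 by norm_num) ▸ (pow_dvd_pow 3 hm).trans (pow_dvd_prod h m)

theorem dvd5 {q a m : ℕ} (ha : 1 ≤ a) (hm : 2 ≤ m) :
    5 ∣ q ^ a * ∏ i ∈ Finset.range m, (q ^ (2 * (i + 1)) - 1) := by
  by_cases h : 5 ∣ q
  · apply Dvd.dvd.mul_right
    exact h.trans (dvd_pow_self q (by omega))
  · apply Dvd.dvd.mul_left
    have h1 := five_dvd h 1
    exact h1.trans ((Finset.dvd_prod_of_mem (fun i => q ^ (2 * (i + 1)) - 1)
      (Finset.mem_range.2 (show 1 < m by omega)) :))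

theorem cop_of_dvd_four {d : ℕ} (h : d ∣ 4) : Nat.Coprime 27 d ∧ Nat.Coprime 5 d := by
  constructor
  · exact Nat.Coprime.coprime_dvd_right h (by norm_num)
  · exact Nat.Coprime.coprime_dvd_right h (by norm_num)

theorem fact27 {n : ℕ} (hn : 9 ≤ n) {c : ℕ} (h : n.factorial = 2 * c) : 27 ∣ c := by
  have h1 : (54 : ℕ) ∣ Nat.factorial 9 := by decide
  have h2 : Nat.factorial 9 ∣ n.factorial := Nat.factorial_dvd_factorial hn
  have h3 := h1.trans h2
  rw [h] at h3
  omega

theorem fact5 {n : ℕ} (hn : 5 ≤ n) {c : ℕ} (h : n.factorial = 2 * c) : 5 ∣ c := by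
  have h1 : (10 : ℕ) ∣ Nat.factorial 5 := by decide
  have h2 : Nat.factorial 5 ∣ n.factorial := Nat.factorial_dvd_factorial hn
  have h3 := h1.trans h2
  rw [h] at h3
  omega

/-! ### orders of the families -/

section

variable {F : Type} [Field F] [Fintype F]

theorem psp_card (m : ℕ) (hm : 1 ≤ m) : Nat.gcd 2 (Fintype.card F - 1) * Nat.card (PSp m F) =
    Fintype.card F ^ (m ^ 2) * ∏ i ∈ Finset.range m, (Fintype.card F ^ (2 * (i + 1)) - 1) := by
  have h1 := S0245.result (F := F) rfl m
  have h2 := S0246.result (F := F) rfl m hm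
  have h3 := Subgroup.card_eq_card_quotient_mul_card_subgroup
    (Subgroup.center (Matrix.symplecticGroup (Fin m) F))
  rw [h1, h2] at h3
  rw [h3, mul_comm]

theorem psp27 {m : ℕ} (hm : 3 ≤ m) : 27 ∣ Nat.card (PSp m F) := by
  have h := psp_card (F := F) m (by omega)
  have h1 := dvd27 (q := Fintype.card F) (a := m ^ 2) (m := m) (by nlinarith only [hm]) hm
  rw [← h] at h1
  exact (cop_of_dvd_four ((Nat.gcd_dvd_left _ _).trans (by norm_num))).1.dvd_of_dvd_mul_left h1

theorem psp5 {m : ℕ} (hm : 2 ≤ m) : 5 ∣ Nat.card (PSp m F) := by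
  have h := psp_card (F := F) m (by omega)
  have h1 := dvd5 (q := Fintype.card F) (a := m ^ 2) (m := m) (by nlinarith only [hm]) hm
  rw [← h] at h1
  exact (cop_of_dvd_four ((Nat.gcd_dvd_left _ _).trans (by norm_num))).2.dvd_of_dvd_mul_left h1

theorem oodd {m : ℕ} (hm : 3 ≤ m) (ho : Odd (Fintype.card F)) :
    27 ∣ Nat.card (POmega F (quadFormOdd m F)) ∧ 5 ∣ Nat.card (POmega F (quadFormOdd m F)) := by
  have h := S0292.result (F := F) rfl ho m hm
  constructor
  · have h1 := dvd27 (q := Fintype.card F) (a := m ^ 2) (m := m) (by nlinarith only [hm]) hm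
    rw [← h] at h1
    exact (cop_of_dvd_four (show 2 ∣ 4 by norm_num)).1.dvd_of_dvd_mul_left h1
  · have h1 := dvd5 (q := Fintype.card F) (a := m ^ 2) (m := m) (by nlinarith only [hm]) (by omega)
    rw [← h] at h1
    exact (cop_of_dvd_four (show 2 ∣ 4 by norm_num)).2.dvd_of_dvd_mul_left h1

theorem oplus {m : ℕ} (hm : 4 ≤ m) :
    27 ∣ Nat.card (POmega F (quadFormPlus m F)) ∧ 5 ∣ Nat.card (POmega F (quadFormPlus m F)) := by
  have h := S0293.result (F := F) rfl m hm
  have hm2 : 3 ≤ m * (m - 1) := (show 3 ≤ 4 * 3 by norm_num).trans (Nat.mul_le_mul hm (by omega))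
  have he : Fintype.card F ^ (m * (m - 1)) * (Fintype.card F ^ m - 1) *
      ∏ i ∈ Finset.range (m - 1), (Fintype.card F ^ (2 * (i + 1)) - 1) =
      (Fintype.card F ^ m - 1) * (Fintype.card F ^ (m * (m - 1)) *
      ∏ i ∈ Finset.range (m - 1), (Fintype.card F ^ (2 * (i + 1)) - 1)) := by ring
  rw [he] at h
  constructor
  · have h1 := (dvd27 (q := Fintype.card F) (a := m * (m - 1)) (m := m - 1) hm2 (by omega)).mul_left
      (Fintype.card F ^ m - 1)
    rw [← h] at h1
    exact (cop_of_dvd_four (Nat.gcd_dvd_left _ _)).1.dvd_of_dvd_mul_left h1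
  · have h1 := (dvd5 (q := Fintype.card F) (a := m * (m - 1)) (m := m - 1) (by omega) (by omega)).mul_left
      (Fintype.card F ^ m - 1)
    rw [← h] at h1
    exact (cop_of_dvd_four (Nat.gcd_dvd_left _ _)).2.dvd_of_dvd_mul_left h1

theorem ominus {m : ℕ} (hm : 4 ≤ m) {a b : F}
    (hab : ∀ z₁ z₂ : F, z₁ ^ 2 + a * z₁ * z₂ + b * z₂ ^ 2 = 0 → z₁ = 0 ∧ z₂ = 0) :
    27 ∣ Nat.card (POmega F (quadFormMinus (m - 1) F a b)) ∧
      5 ∣ Nat.card (POmega F (quadFormMinus (m - 1) F a b)) := by
  have h := S0294.result (F := F) rfl m hm a b hab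
  have hm2 : 3 ≤ m * (m - 1) := (show 3 ≤ 4 * 3 by norm_num).trans (Nat.mul_le_mul hm (by omega))
  have he : Fintype.card F ^ (m * (m - 1)) * (Fintype.card F ^ m + 1) *
      ∏ i ∈ Finset.range (m - 1), (Fintype.card F ^ (2 * (i + 1)) - 1) =
      (Fintype.card F ^ m + 1) * (Fintype.card F ^ (m * (m - 1)) *
      ∏ i ∈ Finset.range (m - 1), (Fintype.card F ^ (2 * (i + 1)) - 1)) := by ring
  rw [he] at h
  constructor
  · have h1 := (dvd27 (q := Fintype.card F) (a := m * (m - 1)) (m := m - 1) hm2 (by omega)).mul_left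
      (Fintype.card F ^ m + 1)
    rw [← h] at h1
    exact (cop_of_dvd_four (Nat.gcd_dvd_left _ _)).1.dvd_of_dvd_mul_left h1
  · have h1 := (dvd5 (q := Fintype.card F) (a := m * (m - 1)) (m := m - 1) (by omega) (by omega)).mul_left
      (Fintype.card F ^ m + 1)
    rw [← h] at h1
    exact (cop_of_dvd_four (Nat.gcd_dvd_left _ _)).2.dvd_of_dvd_mul_left h1

end

/-! ### orders of the exceptional families -/

/-- `9 ∣ q ^ a * ((q ^ 2 - 1) * (q ^ 6 - 1))`, even `27`. -/
theorem exc27 {q a : ℕ} (ha : 3 ≤ a) : 27 ∣ q ^ a * ((q ^ 2 - 1) * (q ^ 6 - 1)) := by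
  by_cases h : 3 ∣ q
  · apply Dvd.dvd.mul_right
    exact (show (27 : ℕ) = 3 ^ 3 by norm_num) ▸ (pow_dvd_pow 3 ha).trans (pow_dvd_pow_of_dvd h a)
  · apply Dvd.dvd.mul_left
    exact (show (27 : ℕ) = 3 * 9 by norm_num) ▸ mul_dvd_mul (three_dvd h 1) (nine_dvd h 1)

/-- with one more factor `3` -/
theorem exc81 {q a : ℕ} (ha : 4 ≤ a) : 81 ∣ q ^ a * ((q ^ 2 - 1) * (q ^ 6 - 1) * (q ^ 8 - 1)) := by
  by_cases h : 3 ∣ q
  · apply Dvd.dvd.mul_right
    exact (show (81 : ℕ) = 3 ^ 4 by norm_num) ▸ (pow_dvd_pow 3 ha).trans (pow_dvd_pow_of_dvd h a)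
  · apply Dvd.dvd.mul_left
    exact (show (81 : ℕ) = 3 * 9 * 3 by norm_num) ▸
      mul_dvd_mul (mul_dvd_mul (three_dvd h 1) (nine_dvd h 1)) (three_dvd h 4)

theorem of_gcd_three {d c : ℕ} (hd : d ∣ 3) (h : 81 ∣ d * c) : 27 ∣ c := by
  rcases (Nat.dvd_prime Nat.prime_three).1 hd with rfl | rfl
  · omega
  · omega

/-- the exceptional groups of Lie type other than the Suzuki groups have order divisible by 27 -/
theorem exc {G : Type u} [Group G] (h : IsExceptionalLieType G) :
    27 ∣ Nat.card G ∨ Lie.IsoSuzuki G := by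
  have T := OrdDiv.table.{u}
  rcases h with h | h | h | h | h | h | h | h | h | h | h
  · left
    obtain ⟨F, _, _, hq, ⟨e⟩⟩ := h
    rw [Nat.card_congr e.toEquiv, T.g2 F, mul_assoc]
    exact exc27 (by norm_num)
  · left
    obtain ⟨F, _, _, ⟨e⟩⟩ := h
    rw [Nat.card_congr e.toEquiv, T.f4 F _ rfl]
    have := (exc27 (q := Fintype.card F) (a := 24) (by norm_num)).mul_right
      ((Fintype.card F ^ 8 - 1) * (Fintype.card F ^ 12 - 1))
    refine this.trans (dvd_of_eq ?_)
    ring
  · left
    obtain ⟨F, _, _, ⟨e⟩⟩ := h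
    rw [Nat.card_congr e.toEquiv]
    refine of_gcd_three (Nat.gcd_dvd_left 3 (Fintype.card F - 1)) ?_
    rw [T.e6 F _ rfl]
    have := (exc81 (q := Fintype.card F) (a := 36) (by norm_num)).mul_right
      ((Fintype.card F ^ 5 - 1) * (Fintype.card F ^ 9 - 1) * (Fintype.card F ^ 12 - 1))
    refine this.trans (dvd_of_eq ?_)
    ring
  · left
    obtain ⟨F, _, _, ⟨e⟩⟩ := h
    rw [Nat.card_congr e.toEquiv]
    refine (cop_of_dvd_four (d := Nat.gcd 2 (Fintype.card F - 1))
      ((Nat.gcd_dvd_left _ _).trans (by norm_num))).1.dvd_of_dvd_mul_left ?_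
    rw [T.e7 F _ rfl]
    have := (exc27 (q := Fintype.card F) (a := 63) (by norm_num)).mul_right
      ((Fintype.card F ^ 8 - 1) * (Fintype.card F ^ 10 - 1) * (Fintype.card F ^ 12 - 1) *
        (Fintype.card F ^ 14 - 1) * (Fintype.card F ^ 18 - 1))
    refine this.trans (dvd_of_eq ?_)
    ring
  · left
    obtain ⟨F, _, _, ⟨e⟩⟩ := h
    rw [Nat.card_congr e.toEquiv, T.e8 F _ rfl]
    by_cases h3 : 3 ∣ Fintype.card F
    · have h1 : 27 ∣ Fintype.card F ^ 120 :=
        (show (27 : ℕ) = 3 ^ 3 by norm_num) ▸ (pow_dvd_pow 3 (by norm_num)).trans (pow_dvd_pow_of_dvd h3 120)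
      simp only [mul_assoc]
      exact h1.mul_right _
    · have h1 : 27 ∣ (Fintype.card F ^ 2 - 1) * (Fintype.card F ^ 12 - 1) :=
        (show (27 : ℕ) = 3 * 9 by norm_num) ▸ mul_dvd_mul (three_dvd h3 1) (nine_dvd h3 2)
      have := h1.mul_left (Fintype.card F ^ 120 * ((Fintype.card F ^ 8 - 1) * (Fintype.card F ^ 14 - 1) *
        (Fintype.card F ^ 18 - 1) * (Fintype.card F ^ 20 - 1) * (Fintype.card F ^ 24 - 1) *
        (Fintype.card F ^ 30 - 1)))
      refine this.trans (dvd_of_eq ?_)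
      ring
  · left
    obtain ⟨F, _, _, q, hq, hF, ⟨e⟩⟩ := h
    rw [Nat.card_congr e.toEquiv]
    refine of_gcd_three (Nat.gcd_dvd_left 3 (q + 1)) ?_
    rw [T.te6 F q hq hF]
    have := (exc81 (q := q) (a := 36) (by norm_num)).mul_right
      ((q ^ 5 + 1) * (q ^ 9 + 1) * (q ^ 12 - 1))
    refine this.trans (dvd_of_eq ?_)
    ring
  · left
    obtain ⟨F, _, _, q, hq, hF, ⟨e⟩⟩ := h
    rw [Nat.card_congr e.toEquiv, T.td4 F q hq hF]
    have := (exc27 (q := q) (a := 12) (by norm_num)).mul_right (q ^ 8 + q ^ 4 + 1)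
    refine this.trans (dvd_of_eq ?_)
    ring
  · exact Or.inr h
  · left
    obtain ⟨F, _, _, m, hm, hF, ⟨e⟩⟩ := h
    rw [Nat.card_congr e.toEquiv, T.ree F m hm hF, mul_assoc]
    apply Dvd.dvd.mul_right
    rw [← pow_mul]
    exact (show (27 : ℕ) = 3 ^ 3 by norm_num) ▸ pow_dvd_pow 3 (by omega)
  · left
    obtain ⟨F, _, _, m, hm, hF, ⟨e⟩⟩ := h
    rw [Nat.card_congr e.toEquiv, T.tf4 F m hm hF]
    have h3 : ¬ 3 ∣ 2 ^ (2 * m + 1) := fun h => by
      have := Nat.prime_three.dvd_of_dvd_pow h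
      omega
    have h1 : 9 ∣ (2 ^ (2 * m + 1)) ^ 3 + 1 := by
      have : (2 ^ (2 * m + 1)) ^ 3 = 8 * 64 ^ m := by
        rw [← pow_mul, show (2 * m + 1) * 3 = 3 + 6 * m by ring, pow_add, pow_mul]
        norm_num
      rw [this]
      have h64 : 64 ^ m % 9 = 1 := by
        rw [Nat.pow_mod]
        norm_num
      omega
    have h2 : 3 ∣ (2 ^ (2 * m + 1)) ^ 4 - 1 := three_dvd h3 2
    have := (mul_dvd_mul h1 h2).mul_left ((2 ^ (2 * m + 1)) ^ 12 * (2 ^ (2 * m + 1) - 1) *
      ((2 ^ (2 * m + 1)) ^ 6 + 1))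
    refine Dvd.dvd.trans (by norm_num) (this.trans (dvd_of_eq ?_))
    ring
  · left
    rw [T.spor G (.tits, 17971200) (by simp only [OrdDiv.spor, _root_.List.mem_cons, _root_.Prod.mk.injEq, _root_.reduceCtorEq, _root_.Nat.reduceEqDiff, _root_.and_self, _root_.List.not_mem_nil, _root_.or_self, _root_.or_false]) h]
    norm_num

/-- the sporadic groups: order divisible by 27, except for five of them -/
theorem spor {G : Type u} [Group G] (h : IsSporadicGroup G) :
    27 ∣ Nat.card G ∨ (Spor.IsoM11 G ∧ Nat.card G = 7920) ∨ (Spor.IsoM22 G ∧ Nat.card G = 443520) ∨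
      (Spor.IsoM23 G ∧ Nat.card G = 10200960) ∨ (Spor.IsoHS G ∧ Nat.card G = 44352000) ∨
      (Spor.IsoJ1 G ∧ Nat.card G = 175560) := by
  have T := OrdDiv.table.{u}
  have key : ∀ (g : OrdDiv.Grp) (o : ℕ), (g, o) ∈ OrdDiv.spor → OrdDiv.Real g G → Nat.card G = o :=
    fun g o hg hr => T.spor G (g, o) hg hr
  rcases h with h | h | h | h | h | h | h | h | h | h | h | h | h | h | h | h | h | h | h | h | h | h | h | h | h | h
  · exact Or.inr (Or.inl ⟨h, key .m11 _ (by simp only [OrdDiv.spor, _root_.List.mem_cons, _root_.Prod.mk.injEq, _root_.reduceCtorEq, _root_.Nat.reduceEqDiff, _root_.and_self, _root_.List.not_mem_nil, _root_.or_self, _root_.or_false, _root_.or_true]) h⟩)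
  · left; rw [key .m12 95040 (by simp only [OrdDiv.spor, _root_.List.mem_cons, _root_.Prod.mk.injEq, _root_.reduceCtorEq, _root_.Nat.reduceEqDiff, _root_.and_self, _root_.List.not_mem_nil, _root_.or_self, _root_.or_false, _root_.or_true]) h]; norm_num
  · exact Or.inr (Or.inr (Or.inl ⟨h, key .m22 _ (by simp only [OrdDiv.spor, _root_.List.mem_cons, _root_.Prod.mk.injEq, _root_.reduceCtorEq, _root_.Nat.reduceEqDiff, _root_.and_self, _root_.List.not_mem_nil, _root_.or_self, _root_.or_false, _root_.or_true]) h⟩))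
  · exact Or.inr (Or.inr (Or.inr (Or.inl ⟨h, key .m23 _ (by simp only [OrdDiv.spor, _root_.List.mem_cons, _root_.Prod.mk.injEq, _root_.reduceCtorEq, _root_.Nat.reduceEqDiff, _root_.and_self, _root_.List.not_mem_nil, _root_.or_self, _root_.or_false, _root_.or_true]) h⟩)))
  · left; rw [key .m24 244823040 (by simp only [OrdDiv.spor, _root_.List.mem_cons, _root_.Prod.mk.injEq, _root_.reduceCtorEq, _root_.Nat.reduceEqDiff, _root_.and_self, _root_.List.not_mem_nil, _root_.or_self, _root_.or_false, _root_.or_true]) h]; norm_num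
  · exact Or.inr (Or.inr (Or.inr (Or.inr (Or.inr ⟨h, key .j1 _ (by simp only [OrdDiv.spor, _root_.List.mem_cons, _root_.Prod.mk.injEq, _root_.reduceCtorEq, _root_.Nat.reduceEqDiff, _root_.and_self, _root_.List.not_mem_nil, _root_.or_self, _root_.or_false, _root_.or_true]) h⟩))))
  · left; rw [key .j2 604800 (by simp only [OrdDiv.spor, _root_.List.mem_cons, _root_.Prod.mk.injEq, _root_.reduceCtorEq, _root_.Nat.reduceEqDiff, _root_.and_self, _root_.List.not_mem_nil, _root_.or_self, _root_.or_false, _root_.or_true]) h]; norm_num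
  · left; rw [key .j3 50232960 (by simp only [OrdDiv.spor, _root_.List.mem_cons, _root_.Prod.mk.injEq, _root_.reduceCtorEq, _root_.Nat.reduceEqDiff, _root_.and_self, _root_.List.not_mem_nil, _root_.or_self, _root_.or_false, _root_.or_true]) h]; norm_num
  · left; rw [key .j4 86775571046077562880 (by simp only [OrdDiv.spor, _root_.List.mem_cons, _root_.Prod.mk.injEq, _root_.reduceCtorEq, _root_.Nat.reduceEqDiff, _root_.and_self, _root_.List.not_mem_nil, _root_.or_self, _root_.or_false, _root_.or_true]) h]; norm_num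
  · left; rw [key .co1 4157776806543360000 (by simp only [OrdDiv.spor, _root_.List.mem_cons, _root_.Prod.mk.injEq, _root_.reduceCtorEq, _root_.Nat.reduceEqDiff, _root_.and_self, _root_.List.not_mem_nil, _root_.or_self, _root_.or_false, _root_.or_true]) h]; norm_num
  · left; rw [key .co2 42305421312000 (by simp only [OrdDiv.spor, _root_.List.mem_cons, _root_.Prod.mk.injEq, _root_.reduceCtorEq, _root_.Nat.reduceEqDiff, _root_.and_self, _root_.List.not_mem_nil, _root_.or_self, _root_.or_false, _root_.or_true]) h]; norm_num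
  · left; rw [key .co3 495766656000 (by simp only [OrdDiv.spor, _root_.List.mem_cons, _root_.Prod.mk.injEq, _root_.reduceCtorEq, _root_.Nat.reduceEqDiff, _root_.and_self, _root_.List.not_mem_nil, _root_.or_self, _root_.or_false, _root_.or_true]) h]; norm_num
  · left; rw [key .mcl 898128000 (by simp only [OrdDiv.spor, _root_.List.mem_cons, _root_.Prod.mk.injEq, _root_.reduceCtorEq, _root_.Nat.reduceEqDiff, _root_.and_self, _root_.List.not_mem_nil, _root_.or_self, _root_.or_false, _root_.or_true]) h]; norm_num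
  · exact Or.inr (Or.inr (Or.inr (Or.inr (Or.inl ⟨h, key .hs _ (by simp only [OrdDiv.spor, _root_.List.mem_cons, _root_.Prod.mk.injEq, _root_.reduceCtorEq, _root_.Nat.reduceEqDiff, _root_.and_self, _root_.List.not_mem_nil, _root_.or_self, _root_.or_false, _root_.or_true]) h⟩))))
  · left; rw [key .suz 448345497600 (by simp only [OrdDiv.spor, _root_.List.mem_cons, _root_.Prod.mk.injEq, _root_.reduceCtorEq, _root_.Nat.reduceEqDiff, _root_.and_self, _root_.List.not_mem_nil, _root_.or_self, _root_.or_false, _root_.or_true]) h]; norm_num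
  · left; rw [key .he 4030387200 (by simp only [OrdDiv.spor, _root_.List.mem_cons, _root_.Prod.mk.injEq, _root_.reduceCtorEq, _root_.Nat.reduceEqDiff, _root_.and_self, _root_.List.not_mem_nil, _root_.or_self, _root_.or_false, _root_.or_true]) h]; norm_num
  · left; rw [key .ru 145926144000 (by simp only [OrdDiv.spor, _root_.List.mem_cons, _root_.Prod.mk.injEq, _root_.reduceCtorEq, _root_.Nat.reduceEqDiff, _root_.and_self, _root_.List.not_mem_nil, _root_.or_self, _root_.or_false, _root_.or_true]) h]; norm_num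
  · left; rw [key .on 460815505920 (by simp only [OrdDiv.spor, _root_.List.mem_cons, _root_.Prod.mk.injEq, _root_.reduceCtorEq, _root_.Nat.reduceEqDiff, _root_.and_self, _root_.List.not_mem_nil, _root_.or_self, _root_.or_false, _root_.or_true]) h]; norm_num
  · left; rw [key .ly 51765179004000000 (by simp only [OrdDiv.spor, _root_.List.mem_cons, _root_.Prod.mk.injEq, _root_.reduceCtorEq, _root_.Nat.reduceEqDiff, _root_.and_self, _root_.List.not_mem_nil, _root_.or_self, _root_.or_false, _root_.or_true]) h]; norm_num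
  · left; rw [key .fi22 64561751654400 (by simp only [OrdDiv.spor, _root_.List.mem_cons, _root_.Prod.mk.injEq, _root_.reduceCtorEq, _root_.Nat.reduceEqDiff, _root_.and_self, _root_.List.not_mem_nil, _root_.or_self, _root_.or_false, _root_.or_true]) h]; norm_num
  · left; rw [key .fi23 4089470473293004800 (by simp only [OrdDiv.spor, _root_.List.mem_cons, _root_.Prod.mk.injEq, _root_.reduceCtorEq, _root_.Nat.reduceEqDiff, _root_.and_self, _root_.List.not_mem_nil, _root_.or_self, _root_.or_false, _root_.or_true]) h]; norm_num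
  · left; rw [key .fi24 1255205709190661721292800 (by simp only [OrdDiv.spor, _root_.List.mem_cons, _root_.Prod.mk.injEq, _root_.reduceCtorEq, _root_.Nat.reduceEqDiff, _root_.and_self, _root_.List.not_mem_nil, _root_.or_self, _root_.or_false, _root_.or_true]) h]; norm_num
  · left; rw [key .hn 273030912000000 (by simp only [OrdDiv.spor, _root_.List.mem_cons, _root_.Prod.mk.injEq, _root_.reduceCtorEq, _root_.Nat.reduceEqDiff, _root_.and_self, _root_.List.not_mem_nil, _root_.or_self, _root_.or_false, _root_.or_true]) h]; norm_num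
  · left; rw [key .th 90745943887872000 (by simp only [OrdDiv.spor, _root_.List.mem_cons, _root_.Prod.mk.injEq, _root_.reduceCtorEq, _root_.Nat.reduceEqDiff, _root_.and_self, _root_.List.not_mem_nil, _root_.or_self, _root_.or_false, _root_.or_true]) h]; norm_num
  · left; rw [key .b 4154781481226426191177580544000000 (by simp only [OrdDiv.spor, _root_.List.mem_cons, _root_.Prod.mk.injEq, _root_.reduceCtorEq, _root_.Nat.reduceEqDiff, _root_.and_self, _root_.List.not_mem_nil, _root_.or_self, _root_.or_false, _root_.or_true]) h]; norm_num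
  · left; rw [key .m 808017424794512875886459904961710757005754368000000000 (by simp only [OrdDiv.spor, _root_.List.mem_cons, _root_.Prod.mk.injEq, _root_.reduceCtorEq, _root_.Nat.reduceEqDiff, _root_.and_self, _root_.List.not_mem_nil, _root_.or_false, _root_.or_true]) h]; norm_num

/-- the Suzuki groups: order prime to 3 and divisible by 5 -/
theorem suz {G : Type u} [Group G] (h : Lie.IsoSuzuki G) : ¬ 3 ∣ Nat.card G ∧ 5 ∣ Nat.card G := by
  have T := OrdDiv.table.{u}
  obtain ⟨F, _, _, m, hm, hF, ⟨e⟩⟩ := h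
  rw [Nat.card_congr e.toEquiv, T.sz F m hm hF]
  have h3 : ∀ k : ℕ, 2 ^ (2 * k + 1) % 3 = 2 := fun k => by
    rw [pow_succ, pow_mul, Nat.mul_mod, Nat.pow_mod]; norm_num
  have h5 : ∀ k : ℕ, (2 ^ (2 * k + 1)) ^ 2 % 5 = 4 := fun k => by
    rw [← pow_mul, show (2 * k + 1) * 2 = 2 + 4 * k by ring, pow_add, pow_mul]
    have h16 : (2 ^ 4) ^ k % 5 = 1 := by rw [Nat.pow_mod]; norm_num
    omega
  have h1 := h3 m
  have h2 := h5 m
  constructor
  · intro h
    rcases (Nat.prime_three.dvd_mul).1 h with h | h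
    · rcases (Nat.prime_three.dvd_mul).1 h with h | h
      · have := Nat.prime_three.dvd_of_dvd_pow h
        omega
      · omega
    · have h4 : (2 ^ (2 * m + 1)) ^ 2 % 3 = 1 := by
        rw [Nat.pow_mod, h1]
      (clear * - h h4; omega)
  · apply Dvd.dvd.mul_left
    omega

theorem alt_card {S : Type u} [Group S] {n : ℕ} (hn : 5 ≤ n) (e : S ≃* ↥(alternatingGroup (Fin n))) :
    n.factorial = 2 * Nat.card S := OrdDiv.alt_card hn e

theorem not_prime {G : Type u} [Group G] [Finite G] (hna : ¬ IsMulCommutative G) : ¬ IsPrimeCyclic G := by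
  intro h
  have : Fact (Nat.card G).Prime := ⟨h⟩
  have : IsCyclic G := isCyclic_of_prime_card (p := Nat.card G) rfl
  exact hna (IsCyclic.isMulCommutative (α := G))

/-- **The finite simple groups whose order is divisible by 3 but not by 27.** -/
theorem not27 {G : Type u} [Group G] [Finite G] [IsSimpleGroup G] (hna : ¬ IsMulCommutative G)
    (h27 : ¬ 27 ∣ Nat.card G) (h3 : 3 ∣ Nat.card G) :
    (∃ n : ℕ, 5 ≤ n ∧ n ≤ 8 ∧ Nonempty (G ≃* alternatingGroup (Fin n))) ∨
    (∃ (F : Type) (_ : Field F) (_ : Fintype F) (n : ℕ), 2 ≤ n ∧ (n = 2 → 4 ≤ Fintype.card F) ∧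
      Nonempty (G ≃* Matrix.ProjectiveSpecialLinearGroup (Fin n) F)) ∨
    (∃ (F : Type) (_ : Field F) (_ : Fintype F), 3 ≤ Fintype.card F ∧ Nonempty (G ≃* PSp 2 F)) ∨
    (∃ (F : Type) (_ : Field F) (_ : Fintype F) (n q : ℕ), Fintype.card F = q ^ 2 ∧ 3 ≤ n ∧ ¬ (n = 3 ∧ q = 2) ∧
      Nonempty (G ≃* PSU n F q)) ∨
    (Spor.IsoM11 G ∧ Nat.card G = 7920) ∨ (Spor.IsoM22 G ∧ Nat.card G = 443520) ∨
      (Spor.IsoM23 G ∧ Nat.card G = 10200960) ∨ (Spor.IsoHS G ∧ Nat.card G = 44352000) ∨
      (Spor.IsoJ1 G ∧ Nat.card G = 175560) := by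
  rcases (S0000.result (G := G)) with h | h | h | h | h | h | h | h | h | h
  · exact absurd h (not_prime hna)
  · obtain ⟨n, hn, ⟨e⟩⟩ := h
    left
    refine ⟨n, hn, ?_, ⟨e⟩⟩
    by_contra h9
    exact h27 (fact27 (by omega) (alt_card hn e))
  · exact Or.inr (Or.inl h)
  · obtain ⟨F, _, _, m, hm, hm2, ⟨e⟩⟩ := h
    by_cases h : m = 2
    · subst h
      exact Or.inr (Or.inr (Or.inl ⟨F, _, _, hm2 rfl, ⟨e⟩⟩))
    · refine absurd ?_ h27
      rw [Nat.card_congr e.toEquiv]
      exact psp27 (by omega)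
  · exact Or.inr (Or.inr (Or.inr (Or.inl h)))
  · obtain ⟨F, _, _, m, hm, ho, ⟨e⟩⟩ := h
    refine absurd ?_ h27
    rw [Nat.card_congr e.toEquiv]
    exact (oodd hm ho).1
  · obtain ⟨F, _, _, m, hm, ⟨e⟩⟩ := h
    refine absurd ?_ h27
    rw [Nat.card_congr e.toEquiv]
    exact (oplus hm).1
  · obtain ⟨F, _, _, m, a, b, hm, hab, ⟨e⟩⟩ := h
    refine absurd ?_ h27
    rw [Nat.card_congr e.toEquiv]
    exact (ominus hm hab).1
  · rcases exc h with h | h
    · exact absurd h h27
    · exact absurd h3 (suz h).1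
  · rcases spor h with h | h
    · exact absurd h h27
    · exact Or.inr (Or.inr (Or.inr (Or.inr h)))

end Cfsg.Agent.H435.Cases
end

-- part: H435/Ord
section
prune_inst 0x10304500752200000018001002001c26b0000000000b0000282001020d094e08a0020e200a000400806410801040004000000010400000000a00300000060120802250001210ac0cb00007801005080c00000000000000000000000000000000000000000
set_option linter.all false
open scoped Cfsg.Agent.FastGrp

/-!
# Orders of `PSL_n(q)` and `PSU_n(q)`: divisibility and small ranks (helper435)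
-/

set_option autoImplicit false

namespace Cfsg.Agent.H435.Ord

open Cfsg Cfsg.Agent.H435.Cases

variable {F : Type*} [Field F] [Fintype F]

theorem sub_eq (q a b : ℕ) : q ^ (a + b) - q ^ a = q ^ a * (q ^ b - 1) := by
  rw [pow_add, Nat.mul_sub, mul_one]

theorem sub_one_mul (q : ℕ) : q ^ 2 - 1 = (q - 1) * (q + 1) := by
  have := Nat.sq_sub_sq q 1
  rw [one_pow] at this
  rw [this, mul_comm]

/-- cancel `q - 1` (or `q + 1`) and the gcd -/
theorem cancel {g d c A R : ℕ} (hd : 0 < d) (hg : g ∣ A) (hg0 : 0 < g) (h : g * (d * c) = A * (d * R)) : R ∣ c := by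
  obtain ⟨s, rfl⟩ := hg
  have h1 : (g * d) * c = (g * d) * (s * R) := by
    rw [show (g * d) * c = g * (d * c) by ring, h]; ring
  have h2 := Nat.eq_of_mul_eq_mul_left (Nat.mul_pos hg0 hd) h1
  exact ⟨s, by rw [h2, mul_comm]⟩

theorem psl_dvd {n : ℕ} (hn : 4 ≤ n) :
    Fintype.card F ^ 6 * ((Fintype.card F ^ 3 - 1) * (Fintype.card F ^ 4 - 1)) ∣
      Nat.card (Matrix.ProjectiveSpecialLinearGroup (Fin n) F) := by
  obtain ⟨k, rfl⟩ : ∃ k, n = k + 4 := ⟨n - 4, by omega⟩
  have h := S0243.result (F := F) rfl (k + 4) (by omega)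
  have hq : 1 < Fintype.card F := Fintype.one_lt_card
  generalize Fintype.card F = q at *
  rw [Fin.prod_univ_castSucc, Fin.prod_univ_castSucc, Fin.prod_univ_castSucc, Fin.prod_univ_castSucc] at h
  simp only [Fin.val_castSucc, Fin.val_last] at h
  rw [sub_eq q k 4, show k + 4 = (k + 1) + 3 by ring, sub_eq q (k + 1) 3, show (k + 1) + 3 = (k + 2) + 2 by ring,
    sub_eq q (k + 2) 2, show (k + 2) + 2 = (k + 3) + 1 by ring, sub_eq q (k + 3) 1, pow_one] at h
  set P := ∏ i : Fin k, (q ^ (k + 3 + 1) - q ^ (i : ℕ)) with hP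
  have hg : Nat.gcd (k + 3 + 1) (q - 1) ∣ q ^ 2 - 1 := by
    rw [sub_one_mul]
    exact (Nat.gcd_dvd_right _ _).mul_right _
  have h1 : Nat.gcd (k + 3 + 1) (q - 1) * ((q - 1) * Nat.card (Matrix.ProjectiveSpecialLinearGroup (Fin (k + 3 + 1)) F)) =
      (q ^ 2 - 1) * ((q - 1) * (P * (q ^ k * (q ^ 4 - 1)) * (q ^ (k + 1) * (q ^ 3 - 1)) * q ^ (k + 2) *
        q ^ (k + 3))) := by
    rw [h]; ring
  have h2 := cancel (by omega) hg (Nat.gcd_pos_of_pos_left _ (by omega)) h1
  refine Dvd.dvd.trans ?_ h2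
  refine ⟨P * q ^ (4 * k), ?_⟩
  ring

theorem psu_dvd {n q : ℕ} (hF : Fintype.card F = q ^ 2) (hn : 4 ≤ n) :
    q ^ (n * (n - 1) / 2) * ((q ^ 3 + 1) * (q ^ 4 - 1)) ∣ Nat.card (PSU n F q) := by
  have h := S0280.result hF n (by omega)
  obtain ⟨k, rfl⟩ : ∃ k, n = 4 + k := ⟨n - 4, by omega⟩
  rw [Finset.prod_range_add] at h
  have h4 : (∏ x ∈ Finset.range 4, if Even x then q ^ (x + 1) + 1 else q ^ (x + 1) - 1) =
      (q + 1) * (q ^ 2 - 1) * (q ^ 3 + 1) * (q ^ 4 - 1) := by
    simp only [Finset.prod_range_succ, Finset.prod_range_zero]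
    norm_num only [Nat.even_iff, _root_.pow_one, _root_.ite_true, _root_.one_mul, _root_.ite_false]
  rw [h4] at h
  set P := ∏ x ∈ Finset.range k, if Even (4 + x) then q ^ (4 + x + 1) + 1 else q ^ (4 + x + 1) - 1 with hP
  have hg : Nat.gcd (4 + k) (q + 1) ∣ q ^ 2 - 1 := by
    rw [sub_one_mul]
    exact (Nat.gcd_dvd_right _ _).mul_left _
  have h1 : Nat.gcd (4 + k) (q + 1) * ((q + 1) * Nat.card (PSU (4 + k) F q)) =
      (q ^ 2 - 1) * ((q + 1) * (q ^ ((4 + k) * (4 + k - 1) / 2) * ((q ^ 3 + 1) * (q ^ 4 - 1)) * P)) := by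
    rw [h]; ring
  have h2 := cancel (by omega) hg (Nat.gcd_pos_of_pos_left _ (by omega)) h1
  exact (Dvd.intro _ rfl).trans h2

theorem psl3_card : Nat.gcd 3 (Fintype.card F - 1) * Nat.card (Matrix.ProjectiveSpecialLinearGroup (Fin 3) F) =
    Fintype.card F ^ 3 * ((Fintype.card F ^ 2 - 1) * (Fintype.card F ^ 3 - 1)) := by
  have h := S0243.result (F := F) rfl 3 (by omega)
  have hq : 1 < Fintype.card F := Fintype.one_lt_card
  generalize Fintype.card F = q at *
  rw [Fin.prod_univ_three] at h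
  simp only [Fin.val_zero, Fin.val_one, Fin.val_two, pow_zero] at h
  rw [show (3 : ℕ) = 1 + 2 by norm_num, sub_eq q 1 2, show (1 : ℕ) + 2 = 2 + 1 by norm_num, sub_eq q 2 1, pow_one] at h
  refine Nat.eq_of_mul_eq_mul_left (show 0 < q - 1 by omega) ?_
  rw [show (2 : ℕ) + 1 = 3 by norm_num] at h
  linarith

theorem psl2_card : Nat.gcd 2 (Fintype.card F - 1) * Nat.card (Matrix.ProjectiveSpecialLinearGroup (Fin 2) F) =
    Fintype.card F * (Fintype.card F ^ 2 - 1) := by
  have h := S0243.result (F := F) rfl 2 (by omega)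
  have hq : 1 < Fintype.card F := Fintype.one_lt_card
  generalize Fintype.card F = q at *
  rw [Fin.prod_univ_two] at h
  simp only [Fin.val_zero, Fin.val_one, pow_zero] at h
  rw [show (2 : ℕ) = 1 + 1 by norm_num, sub_eq q 1 1, pow_one] at h
  refine Nat.eq_of_mul_eq_mul_left (show 0 < q - 1 by omega) ?_
  rw [show (1 : ℕ) + 1 = 2 by norm_num] at h
  linarith

theorem psu3_card {q : ℕ} (hF : Fintype.card F = q ^ 2) :
    Nat.gcd 3 (q + 1) * Nat.card (PSU 3 F q) = q ^ 3 * ((q ^ 2 - 1) * (q ^ 3 + 1)) := by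
  have h := S0280.result hF 3 (by omega)
  have h4 : (∏ x ∈ Finset.range 3, if Even x then q ^ (x + 1) + 1 else q ^ (x + 1) - 1) =
      (q + 1) * (q ^ 2 - 1) * (q ^ 3 + 1) := by
    simp only [Finset.prod_range_succ, Finset.prod_range_zero]
    norm_num only [Nat.even_iff, _root_.pow_one, _root_.ite_true, _root_.one_mul, _root_.ite_false]
  rw [h4] at h
  refine Nat.eq_of_mul_eq_mul_left (show 0 < q + 1 by omega) ?_
  norm_num only [] at h
  linarith only [h]

theorem psl5 {n : ℕ} (hn : 4 ≤ n) : 5 ∣ Nat.card (Matrix.ProjectiveSpecialLinearGroup (Fin n) F) := by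
  refine Dvd.dvd.trans ?_ (psl_dvd (F := F) hn)
  by_cases h : 5 ∣ Fintype.card F
  · exact Dvd.dvd.mul_right (h.trans (dvd_pow_self _ (by norm_num))) _
  · exact Dvd.dvd.mul_left (Dvd.dvd.mul_left (five_dvd h 1) _) _

theorem psu5 {n q : ℕ} (hF : Fintype.card F = q ^ 2) (hn : 4 ≤ n) : 5 ∣ Nat.card (PSU n F q) := by
  refine Dvd.dvd.trans ?_ (psu_dvd hF hn)
  by_cases h : 5 ∣ q
  · refine Dvd.dvd.mul_right (h.trans (dvd_pow_self _ ?_)) _
    have : 4 * 3 ≤ n * (n - 1) := Nat.mul_le_mul hn (by omega)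
    omega
  · exact Dvd.dvd.mul_left (Dvd.dvd.mul_left (five_dvd h 1) _) _

/-- **The finite simple groups whose order is divisible by 3 but not by 5 or 9.** -/
theorem not45 {G : Type*} [Group G] [Finite G] [IsSimpleGroup G] (hna : ¬ IsMulCommutative G)
    (h5 : ¬ 5 ∣ Nat.card G) (h9 : ¬ 9 ∣ Nat.card G) (h3 : 3 ∣ Nat.card G) :
    (∃ (F : Type) (_ : Field F) (_ : Fintype F), 4 ≤ Fintype.card F ∧
      Nonempty (G ≃* Matrix.ProjectiveSpecialLinearGroup (Fin 2) F)) ∨
    (∃ (F : Type) (_ : Field F) (_ : Fintype F), Fintype.card F % 3 = 2 ∧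
      Nonempty (G ≃* Matrix.ProjectiveSpecialLinearGroup (Fin 3) F)) ∨
    (∃ (F : Type) (_ : Field F) (_ : Fintype F) (q : ℕ), Fintype.card F = q ^ 2 ∧ q % 3 = 1 ∧
      Nonempty (G ≃* PSU 3 F q)) := by
  rcases not27 hna (fun h => h9 (Dvd.dvd.trans (by norm_num) h)) h3 with h | h | h | h | h | h | h | h | h
  · obtain ⟨n, hn, -, ⟨e⟩⟩ := h
    exact absurd (fact5 hn (alt_card hn e)) h5
  · obtain ⟨F, _, _, n, hn, hn2, ⟨e⟩⟩ := h
    have h4 : ¬ 4 ≤ n := fun h => h5 (by rw [Nat.card_congr e.toEquiv]; exact psl5 h)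
    obtain rfl | rfl : n = 2 ∨ n = 3 := by omega
    · exact Or.inl ⟨F, inferInstance, inferInstance, hn2 rfl, ⟨e⟩⟩
    · refine Or.inr (Or.inl ⟨F, inferInstance, inferInstance, ?_, ⟨e⟩⟩)
      have hc := psl3_card (F := F)
      rw [← Nat.card_congr e.toEquiv] at hc
      have hq : 1 < Fintype.card F := Fintype.one_lt_card
      generalize Fintype.card F = q at *
      by_contra h2
      have : q % 3 = 0 ∨ q % 3 = 1 := by omega
      rcases this with h0 | h1
      · have h27 : 27 ∣ q ^ 3 := by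
          obtain ⟨r, rfl⟩ := Nat.dvd_of_mod_eq_zero h0
          exact ⟨r ^ 3, by ring⟩
        have h27' : 27 ∣ Nat.gcd 3 (q - 1) * Nat.card G := by
          rw [hc]; exact h27.mul_right _
        have hg : Nat.gcd 3 (q - 1) = 1 := by
          rw [← Nat.coprime_iff_gcd_eq_one, Nat.Prime.coprime_iff_not_dvd Nat.prime_three]
          omega
        rw [hg, one_mul] at h27'
        exact h9 (Dvd.dvd.trans (by norm_num) h27')
      · have h27' : 27 ∣ Nat.gcd 3 (q - 1) * Nat.card G := by
          rw [hc]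
          apply Dvd.dvd.mul_left
          obtain ⟨r, rfl⟩ : ∃ r, q = 3 * r + 1 := ⟨q / 3, by omega⟩
          have e1 : (3 * r + 1) ^ 2 - 1 = 3 * (3 * r ^ 2 + 2 * r) := by
            rw [show (3 * r + 1) ^ 2 = 3 * (3 * r ^ 2 + 2 * r) + 1 by ring, Nat.add_sub_cancel]
          have e2 : (3 * r + 1) ^ 3 - 1 = 9 * (3 * r ^ 3 + 3 * r ^ 2 + r) := by
            rw [show (3 * r + 1) ^ 3 = 9 * (3 * r ^ 3 + 3 * r ^ 2 + r) + 1 by ring, Nat.add_sub_cancel]
          rw [e1, e2]
          exact ⟨(3 * r ^ 2 + 2 * r) * (3 * r ^ 3 + 3 * r ^ 2 + r), by ring⟩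
        rcases (Nat.dvd_prime Nat.prime_three).1 (Nat.gcd_dvd_left 3 (q - 1)) with hg | hg
        · rw [hg] at h27'; omega
        · rw [hg] at h27'; omega
  · obtain ⟨F, _, _, hq, ⟨e⟩⟩ := h
    exact absurd (by rw [Nat.card_congr e.toEquiv]; exact psp5 le_rfl) h5
  · obtain ⟨F, _, _, n, q, hF, hn, hn2, ⟨e⟩⟩ := h
    have h4 : ¬ 4 ≤ n := fun h => h5 (by rw [Nat.card_congr e.toEquiv]; exact psu5 hF h)
    obtain rfl : n = 3 := by omega
    refine Or.inr (Or.inr ⟨F, inferInstance, inferInstance, q, hF, ?_, ⟨e⟩⟩)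
    have hc := psu3_card hF
    rw [← Nat.card_congr e.toEquiv] at hc
    by_contra h2
    have : q % 3 = 0 ∨ q % 3 = 2 := by omega
    rcases this with h0 | h1
    · have h27 : 27 ∣ q ^ 3 := by
        obtain ⟨r, rfl⟩ := Nat.dvd_of_mod_eq_zero h0
        exact ⟨r ^ 3, by ring⟩
      have h27' : 27 ∣ Nat.gcd 3 (q + 1) * Nat.card G := by
        rw [hc]; exact h27.mul_right _
      have hg : Nat.gcd 3 (q + 1) = 1 := by
        rw [← Nat.coprime_iff_gcd_eq_one, Nat.Prime.coprime_iff_not_dvd Nat.prime_three]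
        omega
      rw [hg, one_mul] at h27'
      exact h9 (Dvd.dvd.trans (by norm_num) h27')
    · have h27' : 27 ∣ Nat.gcd 3 (q + 1) * Nat.card G := by
        rw [hc]
        apply Dvd.dvd.mul_left
        obtain ⟨r, rfl⟩ : ∃ r, q = 3 * r + 2 := ⟨q / 3, by omega⟩
        have e1 : (3 * r + 2) ^ 2 - 1 = 3 * (3 * r ^ 2 + 4 * r + 1) := by
          rw [show (3 * r + 2) ^ 2 = 3 * (3 * r ^ 2 + 4 * r + 1) + 1 by ring, Nat.add_sub_cancel]
        have e2 : (3 * r + 2) ^ 3 + 1 = 9 * (3 * r ^ 3 + 6 * r ^ 2 + 4 * r + 1) := by ring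
        rw [e1, e2]
        exact ⟨(3 * r ^ 2 + 4 * r + 1) * (3 * r ^ 3 + 6 * r ^ 2 + 4 * r + 1), by ring⟩
      rcases (Nat.dvd_prime Nat.prime_three).1 (Nat.gcd_dvd_left 3 (q + 1)) with hg | hg
      · rw [hg] at h27'; omega
      · rw [hg] at h27'; omega
  all_goals
    rw [h.2] at h5
    norm_num at h5

end Cfsg.Agent.H435.Ord
end

-- part: H435/Three
section
set_option linter.all false
open scoped Cfsg.Agent.FastGrp

/-!
# Elements of order 3 when 9 does not divide the order (helper435)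
-/

set_option autoImplicit false

namespace Cfsg.Agent.H435.Three

open Subgroup

variable {G : Type*} [Group G] [Finite G]

theorem factorization (h9 : ¬ 9 ∣ Nat.card G) (h3 : 3 ∣ Nat.card G) : (Nat.card G).factorization 3 = 1 := by
  have h0 : Nat.card G ≠ 0 := Nat.card_pos.ne'
  have h1 : 1 ≤ (Nat.card G).factorization 3 := by
    rw [← Nat.Prime.pow_dvd_iff_le_factorization Nat.prime_three h0, pow_one]
    exact h3
  have h2 : ¬ 2 ≤ (Nat.card G).factorization 3 := by
    rw [← Nat.Prime.pow_dvd_iff_le_factorization Nat.prime_three h0]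
    exact h9
  omega

/-- subgroups generated by elements of order 3 are conjugate -/
theorem exists_conj (h9 : ¬ 9 ∣ Nat.card G) {x y : G} (hx : orderOf x = 3) (hy : orderOf y = 3) :
    ∃ g : G, zpowers (g * x * g⁻¹) = zpowers y := by
  have h3 : 3 ∣ Nat.card G := by rw [← hx]; exact orderOf_dvd_natCard x
  have hf := factorization h9 h3
  let P : Sylow 3 G := Sylow.ofCard (zpowers x) (by rw [Nat.card_zpowers, hx, hf, pow_one])
  let Q : Sylow 3 G := Sylow.ofCard (zpowers y) (by rw [Nat.card_zpowers, hy, hf, pow_one])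
  have hP : (P : Subgroup G) = zpowers x := rfl
  have hQ : (Q : Subgroup G) = zpowers y := rfl
  obtain ⟨g, hg⟩ := MulAction.exists_smul_eq G P Q
  refine ⟨g, ?_⟩
  have hmem : g * x * g⁻¹ ∈ zpowers y := by
    rw [← hQ, ← hg, Sylow.coe_subgroup_smul]
    exact Subgroup.smul_mem_pointwise_smul _ (MulAut.conj g) _ (by rw [hP]; exact mem_zpowers x)
  apply eq_of_le_of_card_ge
  · rw [zpowers_le]; exact hmem
  · rw [Nat.card_zpowers, Nat.card_zpowers, hy, ← MulAut.conj_apply, MulEquiv.orderOf_eq, hx]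

theorem centralizer_zpowers (x : G) : centralizer (zpowers x : Set G) = centralizer ({x} : Set G) := by
  rw [zpowers_eq_closure, centralizer_closure]

theorem centralizer_conj (x g : G) : centralizer ({g * x * g⁻¹} : Set G) =
    (centralizer ({x} : Set G)).map (MulAut.conj g).toMonoidHom := by
  ext y
  rw [mem_map_equiv, mem_centralizer_singleton_iff, mem_centralizer_singleton_iff]
  have h1 : (MulAut.conj g).symm y = g⁻¹ * y * g := by simp
  rw [h1]
  constructor
  · intro h
    calc g⁻¹ * y * g * x = g⁻¹ * (y * (g * x * g⁻¹)) * g := by group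
      _ = g⁻¹ * (g * x * g⁻¹ * y) * g := by rw [h]
      _ = x * (g⁻¹ * y * g) := by group
  · intro h
    calc y * (g * x * g⁻¹) = g * (g⁻¹ * y * g * x) * g⁻¹ := by group
      _ = g * (x * (g⁻¹ * y * g)) * g⁻¹ := by rw [h]
      _ = g * x * g⁻¹ * y := by group

/-- the centralizers of two elements of order 3 are conjugate -/
theorem centralizer_eq (h9 : ¬ 9 ∣ Nat.card G) {x y : G} (hx : orderOf x = 3) (hy : orderOf y = 3) :
    ∃ g : G, centralizer ({y} : Set G) = (centralizer ({x} : Set G)).map (MulAut.conj g).toMonoidHom := by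
  obtain ⟨g, hg⟩ := exists_conj h9 hx hy
  exact ⟨g, by rw [← centralizer_zpowers y, ← hg, centralizer_zpowers, centralizer_conj]⟩

theorem card_centralizer (h9 : ¬ 9 ∣ Nat.card G) {x y : G} (hx : orderOf x = 3) (hy : orderOf y = 3) :
    Nat.card (centralizer ({y} : Set G)) = Nat.card (centralizer ({x} : Set G)) := by
  obtain ⟨g, hg⟩ := centralizer_eq h9 hx hy
  rw [hg]
  exact Nat.card_congr ((centralizer ({x} : Set G)).equivMapOfInjective _ (MulAut.conj g).injective).toEquiv.symm

theorem pow_centralizer (h9 : ¬ 9 ∣ Nat.card G) {x y : G} (hx : orderOf x = 3) (hy : orderOf y = 3) {n : ℕ}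
    (hn : ∀ a ∈ centralizer ({x} : Set G), a ^ n = 1) {a : G} (ha : a ∈ centralizer ({y} : Set G)) : a ^ n = 1 := by
  obtain ⟨g, hg⟩ := centralizer_eq h9 hx hy
  rw [hg] at ha
  obtain ⟨b, hb, rfl⟩ := ha
  rw [← map_pow, hn b hb, map_one]

/-- if `9 ∤ |C(x)|` for an element `x` of order 3, then `9 ∤ |G|` -/
theorem not_nine {x : G} (hx : orderOf x = 3) (h : ¬ 9 ∣ Nat.card (centralizer ({x} : Set G))) : ¬ 9 ∣ Nat.card G := by
  intro h9
  obtain ⟨K, hK, hxK⟩ := Sylow.exists_subgroup_card_pow_succ (p := 3) (n := 1) (G := G) (by simpa using h9)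
    (H := zpowers x) (by rw [Nat.card_zpowers, hx, pow_one])
  have hK' : Nat.card K = 3 ^ 2 := hK
  have hcomm : ∀ a b : K, a * b = b * a := IsPGroup.commutative_of_card_eq_prime_sq hK'
  apply h
  have hle : K ≤ centralizer ({x} : Set G) := by
    intro a ha
    rw [mem_centralizer_singleton_iff]
    exact congrArg Subtype.val (hcomm ⟨a, ha⟩ ⟨x, hxK (mem_zpowers x)⟩)
  have := card_dvd_of_le hle
  rw [hK'] at this
  exact this

end Cfsg.Agent.H435.Three
end

-- part: H435/Six
section
prune_inst 0x101045003c220000000000000000002430000000000000000840040009010608800008000a000000006000800000004811000000420000000a0000000004000000020002900c0008800000001004000000000000000000000000000000000000000000000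
set_option linter.all false
open scoped Cfsg.Agent.FastGrp

/-!
# Simple groups with a small centralizer of an element of order 3, without 5 and 9 (helper435)
-/

set_option autoImplicit false

namespace Cfsg.Agent.H435.Six

open Cfsg Cfsg.Agent.H435 Cfsg.Agent.H435.Cases Cfsg.Agent.H435.Ord Cfsg.Agent.H435.Elts Subgroup Matrix

/-- the diagonal torus of `SL₂` -/
def tor (F : Type*) [Field F] : Fˣ →* Matrix.SpecialLinearGroup (Fin 2) F where
  toFun a := ⟨diagonal ![(a : F), ((a⁻¹ : Fˣ) : F)], by rw [det_diagonal, Fin.prod_univ_two]; simp⟩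
  map_one' := by
    apply Subtype.ext
    change diagonal _ = (1 : Matrix (Fin 2) (Fin 2) F)
    rw [← diagonal_one]
    congr 1
    funext i
    fin_cases i <;> simp
  map_mul' a b := by
    apply Subtype.ext
    change diagonal _ = diagonal _ * diagonal _
    rw [diagonal_mul_diagonal]
    congr 1
    funext i
    fin_cases i
    · simp
    · simp only [mul_comm, _root_.Units.val_mul, _root_.mul_inv_rev, _root_.Units.val_inv_eq_inv_val, _root_.Nat.succ_eq_add_one, _root_.Nat.reduceAdd, _root_.Fin.mk_one, _root_.Fin.isValue, _root_.Matrix.cons_val_one, _root_.Matrix.cons_val_fin_one]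

theorem exists_split (F : Type*) [Field F] [Finite F] :
    ∃ C : Subgroup (Matrix.ProjectiveSpecialLinearGroup (Fin 2) F), IsCyclic C ∧ Nat.card Fˣ ∣ 2 * Nat.card C := by
  let f : Fˣ →* Matrix.ProjectiveSpecialLinearGroup (Fin 2) F := (QuotientGroup.mk' _).comp (tor F)
  refine ⟨f.range, isCyclic_of_surjective f.rangeRestrict f.rangeRestrict_surjective, ?_⟩
  have h1 : Nat.card Fˣ = Nat.card f.ker * Nat.card f.range := by
    rw [← Subgroup.index_ker, Subgroup.card_mul_index]
  rw [h1]
  apply mul_dvd_mul_right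
  have h2 : ∀ a ∈ f.ker, a ^ 2 = 1 := by
    intro a ha
    have h3 : tor F a ∈ Subgroup.center (Matrix.SpecialLinearGroup (Fin 2) F) := (QuotientGroup.eq_one_iff _).1 ha
    obtain ⟨r, -, hr⟩ := Matrix.SpecialLinearGroup.mem_center_iff.mp h3
    have h4 : r = (a : F) := by
      have h : Matrix.scalar (Fin 2) r 0 0 = (diagonal ![(a : F), ((a⁻¹ : Fˣ) : F)] : Matrix (Fin 2) (Fin 2) F) 0 0 :=
        congrFun (congrFun hr 0) 0
      simpa [Matrix.scalar_apply] using h
    have h5 : r = ((a⁻¹ : Fˣ) : F) := by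
      have h : Matrix.scalar (Fin 2) r 1 1 = (diagonal ![(a : F), ((a⁻¹ : Fˣ) : F)] : Matrix (Fin 2) (Fin 2) F) 1 1 :=
        congrFun (congrFun hr 1) 1
      simpa [Matrix.scalar_apply] using h
    have h6 : a = a⁻¹ := Units.ext (h4.symm.trans h5)
    rw [pow_two]
    nth_rw 2 [h6]
    rw [mul_inv_cancel]
  obtain ⟨g, hg⟩ := IsCyclic.exists_ofOrder_eq_natCard (α := f.ker)
  rw [← hg]
  apply orderOf_dvd_of_pow_eq_one
  exact Subtype.ext (h2 g g.2)

theorem lemmaA {G : Type*} [Group G] [Finite G] [IsSimpleGroup G] (hna : ¬ IsMulCommutative G)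
    (h5 : ¬ 5 ∣ Nat.card G) (h9 : ¬ 9 ∣ Nat.card G) {x : G} (hx : orderOf x = 3)
    (hC : Nat.card (centralizer ({x} : Set G)) ∣ 12) (hexp : ∀ a ∈ centralizer ({x} : Set G), a ^ 6 = 1) :
    Nat.card G = 168 ∨ Nat.card G = 1092 := by
  have h3 : 3 ∣ Nat.card G := by rw [← hx]; exact _root_.orderOf_dvd_natCard x
  -- cyclic subgroups
  have hcyc : ∀ C : Subgroup G, IsCyclic C → 3 ∣ Nat.card C → Nat.card C ∣ 6 := by
    intro C hCy h3C
    obtain ⟨y, hy⟩ := exists_prime_orderOf_dvd_card' (G := C) 3 h3C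
    obtain ⟨g, hg⟩ := IsCyclic.exists_ofOrder_eq_natCard (α := C)
    rw [← hg]
    apply orderOf_dvd_of_pow_eq_one
    apply Subtype.ext
    have hy' : orderOf (y : G) = 3 := by rw [Subgroup.orderOf_coe, hy]
    refine Three.pow_centralizer h9 hx hy' hexp ?_
    rw [mem_centralizer_singleton_iff]
    exact congrArg Subtype.val (IsMulCommutative.is_comm.comm g y)
  have hbig : ∀ k, BigCent G k → k ∣ 12 := by
    rintro k ⟨y, V, hy, hV, rfl⟩
    refine Dvd.dvd.trans ?_ hC
    rw [← Three.card_centralizer h9 hx hy]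
    apply card_dvd_of_le
    intro z hz
    rw [mem_centralizer_singleton_iff]
    exact hV z hz
  rcases not45 hna h5 h9 h3 with ⟨F, _, _, hq4, ⟨e⟩⟩ | ⟨F, _, _, hq, ⟨e⟩⟩ | ⟨F, _, _, q, hF, hq, ⟨e⟩⟩
  · have hc := psl2_card (F := F)
    rw [← Nat.card_congr e.toEquiv] at hc
    have hcyc' : ∀ C : Subgroup (Matrix.ProjectiveSpecialLinearGroup (Fin 2) F), IsCyclic C → 3 ∣ Nat.card C →
        Nat.card C ∣ 6 := by
      intro C hC1 hC2
      have e2 : ↥C ≃* ↥(C.map e.symm.toMonoidHom) := C.equivMapOfInjective _ e.symm.injective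
      rw [Nat.card_congr e2.toEquiv] at hC2 ⊢
      exact hcyc _ (isCyclic_of_surjective e2 e2.surjective) hC2
    by_cases h3q : 3 ∣ Fintype.card F
    · exfalso
      obtain ⟨p, hcp⟩ := CharP.exists F
      obtain ⟨n, hp, hpn⟩ := FiniteField.card F p
      have hp3 : p = 3 := by
        have : 3 ∣ p ^ (n : ℕ) := by rw [← hpn]; exact h3q
        exact ((Nat.prime_dvd_prime_iff_eq Nat.prime_three hp).1 (Nat.prime_three.dvd_of_dvd_pow this)).symm
      subst hp3
      have hn : 2 ≤ (n : ℕ) := by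
        by_contra hlt
        have : (n : ℕ) = 1 := by have := n.pos; omega
        rw [hpn, this] at hq4
        omega
      have h9' : 9 ∣ Fintype.card F := by
        rw [hpn]
        exact pow_dvd_pow 3 hn
      apply h9
      have h1 : 9 ∣ Nat.gcd 2 (Fintype.card F - 1) * Nat.card G := by
        rw [hc]
        exact h9'.mul_right _
      have h2 : Nat.Coprime 9 (Nat.gcd 2 (Fintype.card F - 1)) :=
        Nat.Coprime.coprime_dvd_right (Nat.gcd_dvd_left _ _) (by norm_num)
      exact h2.dvd_of_dvd_mul_left h1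
    · obtain ⟨C, hCc, hCd⟩ := exists_split F
      rw [card_units_eq] at hCd
      obtain ⟨D, -, -, -, hDc, hD, -⟩ := ClassicalGeometry.PSLTorus.exists_psl_torus F
      generalize Fintype.card F = q at *
      have hg : Nat.gcd 2 (q - 1) = 1 ∨ Nat.gcd 2 (q - 1) = 2 := (Nat.dvd_prime Nat.prime_two).1 (Nat.gcd_dvd_left _ _)
      have h12 : q % 3 = 1 ∨ q % 3 = 2 := by omega
      rcases h12 with h1 | h2
      · have h3C : 3 ∣ Nat.card C := by
          have : 3 ∣ 2 * Nat.card C := Dvd.dvd.trans (by omega) hCd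
          omega
        have h6 := hcyc' C hCc h3C
        have h12 : q - 1 ∣ 12 := hCd.trans (Nat.mul_dvd_mul_left 2 h6)
        have hle := Nat.le_of_dvd (by norm_num) h12
        have : q = 4 ∨ q = 7 ∨ q = 13 := by
          have : q ≤ 13 := by omega
          interval_cases q <;> (clear * - h1 h3q h12; omega)
        rcases this with rfl | rfl | rfl <;> norm_num only [_root_.one_mul] at hc <;> (clear * - h5 hc; omega)
      · exfalso
        have h3D : 3 ∣ Nat.card D := by
          rw [hD]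
          rcases hg with hg | hg <;> rw [hg]
          · omega
          · have h := Nat.gcd_dvd_right 2 (q - 1)
            rw [hg] at h
            omega
        have h6 := hcyc' D hDc h3D
        rw [hD] at h6
        have hle := Nat.le_of_dvd (by norm_num) h6
        have hq12 : q ≤ 12 := by
          rcases hg with hg | hg <;> rw [hg] at hle <;> (clear * - hle; omega)
        interval_cases q <;> norm_num only [_root_.one_mul, _root_.or_false, _root_.or_true] at * <;> (clear * - h5 hc; omega)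
  · have h1 := hbig _ ((Elts.psl3_two (F := F) (by omega)).congr e.symm)
    have hle := Nat.le_of_dvd (by norm_num) h1
    have hc := psl3_card (F := F)
    rw [← Nat.card_congr e.toEquiv] at hc
    have hcase : Fintype.card F = 2 ∨ Fintype.card F = 5 := by
      generalize Fintype.card F = q at *
      have : q ≤ 13 := by omega
      interval_cases q <;> (clear * - hq h1; omega)
    rcases hcase with h2 | h2 <;> rw [h2] at hc <;> norm_num at hc <;> (clear * - h3 hc h5; omega)
  · exfalso
    have hq1 : 1 < q := by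
      have : 1 < Fintype.card F := Fintype.one_lt_card
      rw [hF] at this
      by_contra hlt
      have : q ≤ 1 := by omega
      nlinarith
    have h3F : (3 : F) ≠ 0 := by
      intro h3F
      obtain ⟨p, hp⟩ := CharP.exists F
      have hpp : p.Prime := (CharP.char_is_prime_or_zero F p).resolve_right (CharP.char_ne_zero_of_finite F p)
      have h1 : p ∣ 3 := (CharP.cast_eq_zero_iff F p 3).1 (by exact_mod_cast h3F)
      have h2 := (Nat.prime_dvd_prime_iff_eq hpp Nat.prime_three).1 h1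
      subst h2
      obtain ⟨n, -, hn⟩ := FiniteField.card F 3
      have h3q : 3 ∣ q ^ 2 := by
        rw [← hF, hn]
        exact dvd_pow_self _ n.pos.ne'
      have := Nat.prime_three.dvd_of_dvd_pow h3q
      omega
    have h1 := hbig _ ((Elts.psu3_one hF (by omega) h3F).congr e.symm)
    have hle := Nat.le_of_dvd (by norm_num) h1
    have : q ≤ 11 := by omega
    interval_cases q <;> (clear * - hq h1; omega)

end Cfsg.Agent.H435.Six
end

-- part: H435/Elim
section
prune_inst 0x200400012200000000000000000004000000000000000008200000080042080002000008000400000000000000000000000010400000000000000000000120802350028218000ca00001801004000000000000000000000000000000000000000000000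
set_option linter.all false
open scoped Cfsg.Agent.FastGrp

-- part: H435/Nine
section
/-!
# Self-centralizing elementary abelian TI Sylow 3-subgroups of order 9 (helper435)

`Hyp M`: the Sylow 3-subgroup `M` has order 9, exponent 3, `C(M) = M` and `C(g) ≤ N(M)` for `1 ≠ g ∈ M`.
* `card_cent`: `|C(g)| = 9` or `18` for `1 ≠ g ∈ M`, in general for each element of order 3 (`dvd_cent`);
* `card_le`: `|N(M)| ≤ 144`;
* `modEq`: `|G : N(M)| ≡ 1 mod 9`.
-/

set_option autoImplicit false

namespace Cfsg.Agent.H435.Nine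

open Subgroup

/-- the hypotheses -/
structure Hyp {G : Type*} [Group G] [Finite G] (M : Sylow 3 G) : Prop where
  nine : Nat.card ↥(M : Subgroup G) = 9
  el : ∀ m ∈ (M : Subgroup G), m ^ 3 = 1
  self : centralizer ((M : Subgroup G) : Set G) = (M : Subgroup G)
  cent : ∀ g ∈ (M : Subgroup G), g ≠ 1 → centralizer ({g} : Set G) ≤ normalizer ((M : Subgroup G) : Set G)

namespace Hyp

variable {G : Type*} [Group G] [Finite G] {M : Sylow 3 G} (H : Hyp M)

include H

theorem comm {a b : G} (ha : a ∈ (M : Subgroup G)) (hb : b ∈ (M : Subgroup G)) : a * b = b * a := by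
  rw [← H.self] at hb
  exact mem_centralizer_iff.1 hb a ha

theorem orderOf_eq {g : G} (hg : g ∈ (M : Subgroup G)) (hg1 : g ≠ 1) : orderOf g = 3 :=
  orderOf_eq_prime (H.el g hg) hg1

theorem exists_notMem {g : G} (hg : g ∈ (M : Subgroup G)) (hg1 : g ≠ 1) : ∃ h ∈ (M : Subgroup G), h ∉ zpowers g := by
  by_contra hc
  push Not at hc
  have h1 : (M : Subgroup G) ≤ zpowers g := hc
  have h2 := card_le_of_le h1
  rw [H.nine, Nat.card_zpowers, H.orderOf_eq hg hg1] at h2
  omega

theorem mem_of_sq {g h : G} (hh : h ∈ (M : Subgroup G)) (h2 : h ^ 2 ∈ zpowers g) : h ∈ zpowers g := by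
  have h3 : h = (h ^ 2) ^ 2 := by
    rw [← pow_mul, show 2 * 2 = 3 + 1 by norm_num, pow_add, H.el h hh, one_mul, pow_one]
  rw [h3]
  exact pow_mem h2 2

theorem pow_eq {g h : G} (hh : h ∈ (M : Subgroup G)) (hhg : h ∉ zpowers g) {j k : ℕ} (hj : j < 3) (hk : k < 3)
    (hjk : j < k) : h ^ j * (h ^ k)⁻¹ ∉ zpowers g := by
  intro hc
  have h1 : h ^ (k - j) ∈ zpowers g := by
    have h2 := inv_mem hc
    rw [mul_inv_rev, inv_inv] at h2
    rwa [pow_sub h hjk.le]
  have : k - j = 1 ∨ k - j = 2 := by omega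
  rcases this with h2 | h2
  · rw [h2, pow_one] at h1
    exact hhg h1
  · rw [h2] at h1
    exact hhg (H.mem_of_sq hh h1)

/-- every element of `M` is `g ^ i * h ^ j` -/
theorem exists_pow {g h : G} (hg : g ∈ (M : Subgroup G)) (hg1 : g ≠ 1) (hh : h ∈ (M : Subgroup G))
    (hhg : h ∉ zpowers g) {x : G} (hx : x ∈ (M : Subgroup G)) : ∃ i j : ℕ, j < 3 ∧ x = g ^ i * h ^ j := by
  let f : Fin 3 × Fin 3 → ↥(M : Subgroup G) := fun p =>
    ⟨g ^ (p.1 : ℕ) * h ^ (p.2 : ℕ), mul_mem (pow_mem hg _) (pow_mem hh _)⟩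
  have hinj : Function.Injective f := by
    rintro ⟨i, j⟩ ⟨i', j'⟩ he
    have he' : g ^ (i : ℕ) * h ^ (j : ℕ) = g ^ (i' : ℕ) * h ^ (j' : ℕ) := congrArg Subtype.val he
    have h1 : h ^ (j : ℕ) * (h ^ (j' : ℕ))⁻¹ = (g ^ (i : ℕ))⁻¹ * g ^ (i' : ℕ) := by
      rw [mul_inv_eq_iff_eq_mul, mul_assoc, ← he', inv_mul_cancel_left]
    have h2 : h ^ (j : ℕ) * (h ^ (j' : ℕ))⁻¹ ∈ zpowers g := by
      rw [h1]
      exact mul_mem (inv_mem (pow_mem (mem_zpowers g) _)) (pow_mem (mem_zpowers g) _)
    have hj : (j : ℕ) = j' := by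
      rcases lt_trichotomy (j : ℕ) j' with h3 | h3 | h3
      · exact absurd h2 (H.pow_eq hh hhg j.2 j'.2 h3)
      · exact h3
      · refine absurd ?_ (H.pow_eq hh hhg j'.2 j.2 h3)
        have := inv_mem h2
        rwa [mul_inv_rev, inv_inv] at this
    rw [hj] at he'
    have hi : g ^ (i : ℕ) = g ^ (i' : ℕ) := mul_right_cancel he'
    have hi' : (i : ℕ) = i' := by
      apply pow_injOn_Iio_orderOf _ _ hi
      · rw [H.orderOf_eq hg hg1]; exact i.2
      · rw [H.orderOf_eq hg hg1]; exact i'.2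
    exact Prod.ext (Fin.ext hi') (Fin.ext hj)
  have hbij : Function.Bijective f :=
    (Nat.bijective_iff_injective_and_card f).2 ⟨hinj, by simp only [H.nine, _root_.Nat.card_eq_fintype_card, _root_.Fintype.card_prod, _root_.Fintype.card_fin, _root_.Nat.reduceMul]⟩
  obtain ⟨⟨i, j⟩, hij⟩ := hbij.2 ⟨x, hx⟩
  exact ⟨i, j, j.2, (congrArg Subtype.val hij).symm⟩

omit H in
omit [Finite G] in
theorem mem_of_pow {c : G} (hc : c ∈ normalizer ((M : Subgroup G) : Set G)) {k : ℕ} (h : c ^ 3 ^ k = 1) :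
    c ∈ (M : Subgroup G) := by
  have h1 : IsPGroup 3 (zpowers c) := by
    intro x
    obtain ⟨n, hn⟩ := mem_zpowers_iff.1 x.2
    refine ⟨k, ?_⟩
    apply Subtype.ext
    rw [SubmonoidClass.coe_pow, ← hn, ← zpow_natCast, ← zpow_mul, mul_comm, zpow_mul, zpow_natCast, h, one_zpow]
    rfl
  have h2 := (h1.inf_normalizer_sylow M).le (mem_inf.2 ⟨mem_zpowers c, hc⟩)
  exact (mem_inf.1 h2).2

/-- the block lemma -/
theorem mem_of_block {g h : G} (hg : g ∈ (M : Subgroup G)) (hg1 : g ≠ 1) (hh : h ∈ (M : Subgroup G))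
    (hhg : h ∉ zpowers g) {c : G} (hc : c * g = g * c) {i : ℕ} (h1 : c * h * c⁻¹ = g ^ i * h) :
    c ∈ (M : Subgroup G) := by
  have hcN : c ∈ normalizer ((M : Subgroup G) : Set G) :=
    H.cent g hg hg1 (mem_centralizer_singleton_iff.2 hc)
  have e1 : c * h = g ^ i * h * c := by rw [← h1, inv_mul_cancel_right]
  have e2 : c * g ^ i = g ^ i * c := (show Commute c g from hc).pow_right i
  have e3 : c ^ 3 * h = h * c ^ 3 := by
    have hc3 : c ^ 3 * h = g ^ i * g ^ i * g ^ i * h * c ^ 3 := by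
      have s1 : c ^ 2 * h = g ^ i * g ^ i * h * c ^ 2 := by
        calc c ^ 2 * h = c * (c * h) := by rw [pow_two, mul_assoc]
          _ = c * g ^ i * h * c := by rw [e1]; simp only [mul_assoc]
          _ = g ^ i * (c * h) * c := by rw [e2]; simp only [mul_assoc]
          _ = g ^ i * g ^ i * h * c ^ 2 := by rw [e1, pow_two]; simp only [mul_assoc]
      have e2' : c * (g ^ i * g ^ i) = g ^ i * g ^ i * c := by
        rw [← mul_assoc, e2, mul_assoc, e2, mul_assoc]
      calc c ^ 3 * h = c * (c ^ 2 * h) := by rw [pow_succ' c 2, mul_assoc]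
        _ = c * (g ^ i * g ^ i) * h * c ^ 2 := by rw [s1]; simp only [mul_assoc]
        _ = g ^ i * g ^ i * (c * h) * c ^ 2 := by rw [e2']; simp only [mul_assoc]
        _ = g ^ i * g ^ i * g ^ i * h * c ^ 3 := by rw [e1, pow_succ' c 2]; simp only [mul_assoc]
    have hgi : g ^ i * g ^ i * g ^ i = 1 := by
      rw [← pow_add, ← pow_add, show i + i + i = 3 * i by ring, pow_mul, H.el g hg, one_pow]
    rw [hc3, hgi, one_mul]
  have e4 : c ^ 3 * g = g * c ^ 3 := (show Commute c g from hc).pow_left 3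
  have h3 : c ^ 3 ∈ (M : Subgroup G) := by
    rw [← H.self, mem_centralizer_iff]
    intro x hx
    obtain ⟨a, b, -, rfl⟩ := H.exists_pow hg hg1 hh hhg hx
    have f1 : Commute (c ^ 3) (g ^ a) := (show Commute (c ^ 3) g from e4).pow_right a
    have f2 : Commute (c ^ 3) (h ^ b) := (show Commute (c ^ 3) h from e3).pow_right b
    exact (f1.mul_right f2).symm
  apply mem_of_pow hcN (k := 2)
  rw [show 3 ^ 2 = 3 * 3 by norm_num, pow_mul]
  exact H.el _ h3

/-- `|C(g) : M| ≤ 2` -/
theorem relIndex {g : G} (hg : g ∈ (M : Subgroup G)) (hg1 : g ≠ 1) :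
    (M : Subgroup G).relIndex (centralizer ({g} : Set G)) = 1 ∨
      (M : Subgroup G).relIndex (centralizer ({g} : Set G)) = 2 := by
  by_cases hle : centralizer ({g} : Set G) ≤ (M : Subgroup G)
  · exact Or.inl (relIndex_eq_one.2 hle)
  right
  obtain ⟨h, hh, hhg⟩ := H.exists_notMem hg hg1
  have key : ∀ c : G, c * g = g * c → c ∉ (M : Subgroup G) → ∃ i : ℕ, c * h * c⁻¹ = g ^ i * h ^ 2 := by
    intro c hc hcM
    have hcN : c ∈ normalizer ((M : Subgroup G) : Set G) :=
      H.cent g hg hg1 (mem_centralizer_singleton_iff.2 hc)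
    have h1 : c * h * c⁻¹ ∈ (M : Subgroup G) := (mem_normalizer_iff.1 hcN h).1 hh
    obtain ⟨i, j, hj, hij⟩ := H.exists_pow hg hg1 hh hhg h1
    interval_cases j
    · exfalso
      rw [pow_zero, mul_one] at hij
      apply hhg
      have : h = g ^ i := by
        have e2 : c * g ^ i = g ^ i * c := (show Commute c g from hc).pow_right i
        have e3 : c * h = c * g ^ i := by
          rw [e2, ← hij, inv_mul_cancel_right]
        exact mul_left_cancel e3
      rw [this]
      exact pow_mem (mem_zpowers g) _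
    · exfalso
      rw [pow_one] at hij
      exact hcM (H.mem_of_block hg hg1 hh hhg hc hij)
    · exact ⟨i, hij⟩
  rw [relIndex_eq_two_iff_exists_notMem_and]
  obtain ⟨a, haC, haM⟩ := SetLike.not_le_iff_exists.1 hle
  refine ⟨a, haC, haM, ?_⟩
  intro b hbC
  by_cases hbM : b ∈ (M : Subgroup G)
  · exact Or.inr hbM
  left
  rw [mem_centralizer_singleton_iff] at haC hbC
  obtain ⟨i, hi⟩ := key a haC haM
  obtain ⟨j, hj⟩ := key b hbC hbM
  have hab : b * a * g = g * (b * a) := by rw [mul_assoc, haC, ← mul_assoc, hbC, mul_assoc]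
  have hbg : b * g ^ i = g ^ i * b := (show Commute b g from hbC).pow_right i
  have hcomm : h * g ^ j = g ^ j * h := H.comm hh (pow_mem hg j)
  have hh3 : h * h * h = 1 := by have := H.el h hh; rwa [pow_succ, pow_two] at this
  apply H.mem_of_block hg hg1 hh hhg hab (i := i + 2 * j)
  calc b * a * h * (b * a)⁻¹ = b * (a * h * a⁻¹) * b⁻¹ := by rw [mul_inv_rev]; simp only [mul_assoc]
    _ = b * g ^ i * h ^ 2 * b⁻¹ := by rw [hi]; simp only [mul_assoc]
    _ = g ^ i * (b * h * b⁻¹) * (b * h * b⁻¹) := by rw [hbg, pow_two]; group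
    _ = g ^ i * (g ^ j * h ^ 2) * (g ^ j * h ^ 2) := by rw [hj]
    _ = g ^ (i + 2 * j) * h := by
      have c1 : h ^ 2 * g ^ j = g ^ j * h ^ 2 := H.comm (pow_mem hh 2) (pow_mem hg j)
      have c2 : h ^ 2 * h ^ 2 = h := by
        rw [← pow_add, show 2 + 2 = 3 + 1 by norm_num, pow_add, H.el h hh, one_mul, pow_one]
      calc g ^ i * (g ^ j * h ^ 2) * (g ^ j * h ^ 2) = g ^ i * g ^ j * (h ^ 2 * g ^ j) * h ^ 2 := by
            simp only [mul_assoc]
        _ = g ^ i * g ^ j * g ^ j * (h ^ 2 * h ^ 2) := by rw [c1]; simp only [mul_assoc]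
        _ = g ^ (i + 2 * j) * h := by
            rw [c2, show i + 2 * j = i + j + j by ring, pow_add, pow_add]

theorem le_cent {g : G} (hg : g ∈ (M : Subgroup G)) : (M : Subgroup G) ≤ centralizer ({g} : Set G) := by
  intro x hx
  rw [mem_centralizer_singleton_iff]
  exact H.comm hx hg

/-- `|C(g)| = 9` or `18` -/
theorem card_cent {g : G} (hg : g ∈ (M : Subgroup G)) (hg1 : g ≠ 1) :
    Nat.card (centralizer ({g} : Set G)) = 9 ∨ Nat.card (centralizer ({g} : Set G)) = 18 := by
  have h1 := relIndex_mul_relIndex ⊥ (M : Subgroup G) (centralizer ({g} : Set G)) bot_le (H.le_cent hg)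
  rw [relIndex_bot_left, relIndex_bot_left] at h1
  rcases H.relIndex hg hg1 with h | h
  · left; rw [← h1, H.nine, h]
  · right; rw [← h1, H.nine, h]

omit H in
/-- each element of order 3 is conjugate to an element of `M` -/
theorem exists_conj {x : G} (hx : orderOf x = 3) :
    ∃ g : G, g * x * g⁻¹ ∈ (M : Subgroup G) ∧ g * x * g⁻¹ ≠ 1 := by
  have hp : IsPGroup 3 (zpowers x) := by
    apply IsPGroup.of_card (n := 1)
    rw [Nat.card_zpowers, hx, pow_one]
  obtain ⟨P, hP⟩ := hp.exists_le_sylow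
  obtain ⟨g, hg⟩ := MulAction.exists_smul_eq G P M
  refine ⟨g, ?_, ?_⟩
  · rw [← hg]
    rw [Sylow.coe_subgroup_smul]
    exact Subgroup.smul_mem_pointwise_smul _ (MulAut.conj g) _ (hP (mem_zpowers x))
  · intro h
    have : x = 1 := by
      have h2 : x = g⁻¹ * (g * x * g⁻¹) * g := by group
      rw [h2, h, mul_one, inv_mul_cancel]
    rw [this, orderOf_one] at hx
    omega

omit H in
omit [Finite G] in
theorem card_cent_conj (x g : G) :
    Nat.card (centralizer ({g * x * g⁻¹} : Set G)) = Nat.card (centralizer ({x} : Set G)) := by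
  have h : centralizer ({g * x * g⁻¹} : Set G) = (centralizer ({x} : Set G)).map (MulAut.conj g).toMonoidHom := by
    ext y
    rw [mem_map_equiv, mem_centralizer_singleton_iff, mem_centralizer_singleton_iff]
    have h1 : (MulAut.conj g).symm y = g⁻¹ * y * g := by simp
    rw [h1]
    constructor
    · intro h
      calc g⁻¹ * y * g * x = g⁻¹ * (y * (g * x * g⁻¹)) * g := by group
        _ = g⁻¹ * (g * x * g⁻¹ * y) * g := by rw [h]
        _ = x * (g⁻¹ * y * g) := by group
    · intro h
      calc y * (g * x * g⁻¹) = g * (g⁻¹ * y * g * x) * g⁻¹ := by group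
        _ = g * (x * (g⁻¹ * y * g)) * g⁻¹ := by rw [h]
        _ = g * x * g⁻¹ * y := by group
  rw [h]
  exact Nat.card_congr ((centralizer ({x} : Set G)).equivMapOfInjective _
    (MulAut.conj g).injective).toEquiv.symm

/-- `|C(x)| = 9` or `18` for each element `x` of order 3 -/
theorem card_cent' {x : G} (hx : orderOf x = 3) :
    Nat.card (centralizer ({x} : Set G)) = 9 ∨ Nat.card (centralizer ({x} : Set G)) = 18 := by
  obtain ⟨g, h1, h2⟩ := exists_conj (M := M) hx
  rw [← card_cent_conj x g]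
  exact H.card_cent h1 h2

theorem dvd_cent {x : G} (hx : orderOf x = 3) : Nat.card (centralizer ({x} : Set G)) ∣ 18 := by
  rcases H.card_cent' hx with h | h <;> rw [h]
  norm_num

theorem card_dvd {x : G} (hx : orderOf x = 3) {V : Subgroup G} (hV : ∀ y ∈ V, y * x = x * y) : Nat.card V ∣ 18 := by
  have h1 : V ≤ centralizer ({x} : Set G) := fun y hy => mem_centralizer_singleton_iff.2 (hV y hy)
  exact (card_dvd_of_le h1).trans (H.dvd_cent hx)

/-- `M` is TI -/
theorem ti {R : Sylow 3 G} (hR : M ≠ R) : Nat.card ((M : Subgroup G) ⊓ (R : Subgroup G) : Subgroup G) = 1 := by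
  by_contra hne
  have : Nontrivial ↥((M : Subgroup G) ⊓ (R : Subgroup G)) := by
    rw [← Finite.one_lt_card_iff_nontrivial]
    have : 0 < Nat.card ↥((M : Subgroup G) ⊓ (R : Subgroup G)) := Nat.card_pos
    omega
  obtain ⟨⟨g, hg⟩, hg1⟩ := exists_ne (1 : ↥((M : Subgroup G) ⊓ (R : Subgroup G)))
  rw [mem_inf] at hg
  have hg1' : g ≠ 1 := fun h => hg1 (Subtype.ext h)
  have hR9 : Nat.card ↥(R : Subgroup G) = 9 := by
    rw [← H.nine]
    exact Nat.card_congr (Sylow.equiv R M).toEquiv
  have hRc : ∀ a b : ↥(R : Subgroup G), a * b = b * a := by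
    intro a b
    let e := Sylow.equiv R M
    apply e.injective
    rw [map_mul, map_mul]
    exact Subtype.ext (H.comm (e a).2 (e b).2)
  have h1 : (R : Subgroup G) ≤ normalizer ((M : Subgroup G) : Set G) := by
    intro r hr
    apply H.cent g hg.1 hg1'
    rw [mem_centralizer_singleton_iff]
    exact congrArg Subtype.val (hRc ⟨r, hr⟩ ⟨g, hg.2⟩)
  have h2 : (R : Subgroup G) ⊓ normalizer ((M : Subgroup G) : Set G) = (R : Subgroup G) ⊓ (M : Subgroup G) :=
    R.isPGroup'.inf_normalizer_sylow M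
  rw [inf_eq_left.2 h1] at h2
  have h3 : (R : Subgroup G) ≤ (M : Subgroup G) := by
    rw [h2]; exact inf_le_right
  have h4 : (R : Subgroup G) = (M : Subgroup G) :=
    Subgroup.eq_of_le_of_card_ge h3 (by rw [hR9, H.nine])
  exact hR (Sylow.ext h4.symm)

/-- `|G : N(M)| ≡ 1 mod 9` -/
theorem modEq : (normalizer ((M : Subgroup G) : Set G)).index % 9 = 1 := by
  have h0 : Nat.card (Sylow 3 G) = (normalizer ((M : Subgroup G) : Set G)).index :=
    Sylow.card_eq_index_normalizer M
  rw [← h0]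
  by_contra hc
  have hne : ¬ Nat.card (Sylow 3 G) ≡ 1 [MOD 3 ^ 2] := fun h => hc h
  obtain ⟨R, hR, h2⟩ := SmallSimple.SylowInter.exists_ne_card_le 3 2 hne M
  rw [H.ti hR, H.nine] at h2
  omega

theorem card_ne : Nat.card {x : ↥(M : Subgroup G) // x ≠ 1} = 8 := by
  have h := H.nine
  have : Fintype ↥(M : Subgroup G) := Fintype.ofFinite _
  classical
  rw [Nat.card_eq_fintype_card] at h ⊢
  rw [Fintype.card_subtype_compl, h]
  simp

omit H in
omit [Finite G] in
theorem exists_inj {g : G} (hg : g ∈ (M : Subgroup G)) (hg1 : g ≠ 1) :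
    ∃ F : ↥(normalizer ((M : Subgroup G) : Set G)) ⧸
      (centralizer ({g} : Set G)).subgroupOf (normalizer ((M : Subgroup G) : Set G)) →
      {x : ↥(M : Subgroup G) // x ≠ 1}, Function.Injective F ∧
      ∀ n : ↥(normalizer ((M : Subgroup G) : Set G)), ((F (QuotientGroup.mk n)).1 : G) = n * g * (n : G)⁻¹ := by
  let f : ↥(normalizer ((M : Subgroup G) : Set G)) → {x : ↥(M : Subgroup G) // x ≠ 1} := fun n =>
    ⟨⟨(n : G) * g * (n : G)⁻¹, (mem_normalizer_iff.1 n.2 g).1 hg⟩, fun h => hg1 (by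
      have h1 : (n : G) * g * (n : G)⁻¹ = 1 := congrArg Subtype.val h
      have h2 : g = (n : G)⁻¹ * ((n : G) * g * (n : G)⁻¹) * n := by group
      rw [h2, h1, mul_one, inv_mul_cancel])⟩
  have hf : ∀ a b, f a = f b ↔ a⁻¹ * b ∈ (centralizer ({g} : Set G)).subgroupOf (normalizer ((M : Subgroup G) : Set G)) := by
    intro a b
    rw [mem_subgroupOf, mem_centralizer_singleton_iff]
    constructor
    · intro h
      have h1 : (a : G) * g * (a : G)⁻¹ = (b : G) * g * (b : G)⁻¹ := congrArg (fun x => ((x.1 : ↥(M : Subgroup G)) : G)) h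
      change (a : G)⁻¹ * b * g = g * ((a : G)⁻¹ * b)
      calc (a : G)⁻¹ * b * g = (a : G)⁻¹ * (b * g * (b : G)⁻¹) * b := by group
        _ = (a : G)⁻¹ * (a * g * (a : G)⁻¹) * b := by rw [h1]
        _ = g * ((a : G)⁻¹ * b) := by group
    · intro h
      change (a : G)⁻¹ * b * g = g * ((a : G)⁻¹ * b) at h
      apply Subtype.ext
      apply Subtype.ext
      change (a : G) * g * (a : G)⁻¹ = (b : G) * g * (b : G)⁻¹
      calc (a : G) * g * (a : G)⁻¹ = a * (g * ((a : G)⁻¹ * b)) * (b : G)⁻¹ := by group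
        _ = a * ((a : G)⁻¹ * b * g) * (b : G)⁻¹ := by rw [h]
        _ = (b : G) * g * (b : G)⁻¹ := by group
  let F : ↥(normalizer ((M : Subgroup G) : Set G)) ⧸
      (centralizer ({g} : Set G)).subgroupOf (normalizer ((M : Subgroup G) : Set G)) →
      {x : ↥(M : Subgroup G) // x ≠ 1} := Quotient.lift f fun a b hab =>
        (hf a b).2 (QuotientGroup.leftRel_apply.1 hab)
  have hF : Function.Injective F := by
    intro x y
    induction x using QuotientGroup.induction_on
    induction y using QuotientGroup.induction_on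
    intro h
    exact QuotientGroup.eq.2 ((hf _ _).1 h)
  exact ⟨F, hF, fun n => rfl⟩

/-- the centralizer of `g ∈ M#` has index at most 8 in `N(M)` -/
theorem relIndex_le {g : G} (hg : g ∈ (M : Subgroup G)) (hg1 : g ≠ 1) :
    (centralizer ({g} : Set G)).relIndex (normalizer ((M : Subgroup G) : Set G)) ≤ 8 := by
  obtain ⟨F, hF, -⟩ := exists_inj hg hg1
  have h1 := Nat.card_le_card_of_injective F hF
  rw [H.card_ne] at h1
  exact h1

/-- if the index is 8 then all elements of `M#` are conjugate to `g` under `N(M)` -/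
theorem conj_of_eight {g : G} (hg : g ∈ (M : Subgroup G)) (hg1 : g ≠ 1)
    (h8 : (centralizer ({g} : Set G)).relIndex (normalizer ((M : Subgroup G) : Set G)) = 8)
    {x : G} (hx : x ∈ (M : Subgroup G)) (hx1 : x ≠ 1) : ∃ n : G, n * g * n⁻¹ = x := by
  obtain ⟨F, hF, hF2⟩ := exists_inj hg hg1
  have hbij : Function.Bijective F :=
    (Nat.bijective_iff_injective_and_card F).2 ⟨hF, by rw [H.card_ne]; exact h8⟩
  obtain ⟨y, hy⟩ := hbij.2 ⟨⟨x, hx⟩, fun h => hx1 (congrArg Subtype.val h)⟩
  induction y using QuotientGroup.induction_on with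
  | H n =>
    refine ⟨n, ?_⟩
    rw [← hF2 n, hy]

theorem card_mul {g : G} (hg : g ∈ (M : Subgroup G)) (hg1 : g ≠ 1) :
    Nat.card (centralizer ({g} : Set G)) *
      (centralizer ({g} : Set G)).relIndex (normalizer ((M : Subgroup G) : Set G)) =
      Nat.card (normalizer ((M : Subgroup G) : Set G)) := by
  have h1 := relIndex_mul_relIndex ⊥ (centralizer ({g} : Set G)) (normalizer ((M : Subgroup G) : Set G)) bot_le
    (H.cent g hg hg1)
  rwa [relIndex_bot_left, relIndex_bot_left] at h1

theorem exists_ne : ∃ g ∈ (M : Subgroup G), g ≠ 1 := by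
  by_contra hc
  push Not at hc
  have h1 : (M : Subgroup G) = ⊥ := (eq_bot_iff_forall _).2 hc
  have h2 := H.nine
  rw [h1, card_bot] at h2
  omega

/-- `|N(M)| ≤ 144` -/
theorem card_le : Nat.card (normalizer ((M : Subgroup G) : Set G)) ≤ 144 := by
  obtain ⟨g, hg, hg1⟩ := H.exists_ne
  rw [← H.card_mul hg hg1]
  have h1 : Nat.card (centralizer ({g} : Set G)) ≤ 18 := by
    rcases H.card_cent hg hg1 with h | h <;> omega
  calc _ ≤ 18 * 8 := Nat.mul_le_mul h1 (H.relIndex_le hg hg1)
    _ = 144 := rfl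

theorem nine_dvd : 9 ∣ Nat.card (normalizer ((M : Subgroup G) : Set G)) := by
  rw [← H.nine]
  exact card_dvd_of_le le_normalizer

/-- `|N(M)| = 144` if a Sylow 2-subgroup of `N(M)` has order 16, and `72` if it has order 8 -/
theorem card_of_sylow {k : ℕ} (S : Sylow 2 ↥(normalizer ((M : Subgroup G) : Set G)))
    (hS : Nat.card ↥(S : Subgroup ↥(normalizer ((M : Subgroup G) : Set G))) = k) (hk : k = 8 ∨ k = 16) :
    Nat.card (normalizer ((M : Subgroup G) : Set G)) = 9 * k := by
  have h1 : k ∣ Nat.card (normalizer ((M : Subgroup G) : Set G)) := by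
    rw [← hS]; exact card_subgroup_dvd_card _
  have h2 := H.nine_dvd
  have h3 := H.card_le
  have h4 : 0 < Nat.card (normalizer ((M : Subgroup G) : Set G)) := Nat.card_pos
  rcases hk with rfl | rfl
  · have h5 : ¬ 16 ∣ Nat.card (normalizer ((M : Subgroup G) : Set G)) := by
      intro h
      have h6 := S.card_eq_multiplicity
      rw [hS] at h6
      have h7 : 2 ^ 4 ∣ Nat.card (normalizer ((M : Subgroup G) : Set G)) := by simpa only [_root_.Nat.reducePow, _root_.Sylow.coe_coe] using h
      rw [Nat.Prime.pow_dvd_iff_le_factorization Nat.prime_two (by (clear * - h4; omega))] at h7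
      have h8 : 2 ^ 4 ≤ 2 ^ (Nat.card (normalizer ((M : Subgroup G) : Set G))).factorization 2 :=
        Nat.pow_le_pow_right (by norm_num) h7
      rw [← h6] at h8
      omega
    omega
  · omega

/-- if `|N(M)| = 72`, all or no centralizers of elements of order 3 have even order -/
theorem all_or_none (hN : Nat.card (normalizer ((M : Subgroup G) : Set G)) = 72) :
    (∀ g ∈ (M : Subgroup G), g ≠ 1 → Nat.card (centralizer ({g} : Set G)) = 18) ∨
      (∀ g ∈ (M : Subgroup G), g ≠ 1 → Nat.card (centralizer ({g} : Set G)) = 9) := by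
  by_cases h : ∃ g ∈ (M : Subgroup G), g ≠ 1 ∧ Nat.card (centralizer ({g} : Set G)) = 9
  · right
    obtain ⟨g, hg, hg1, hg9⟩ := h
    have h8 : (centralizer ({g} : Set G)).relIndex (normalizer ((M : Subgroup G) : Set G)) = 8 := by
      have := H.card_mul hg hg1
      rw [hg9, hN] at this
      omega
    intro x hx hx1
    obtain ⟨n, hn⟩ := H.conj_of_eight hg hg1 h8 hx hx1
    rw [← hn, card_cent_conj, hg9]
  · left
    push Not at h
    intro g hg hg1
    rcases H.card_cent hg hg1 with h9 | h18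
    · exact absurd h9 (h g hg hg1)
    · exact h18

/-- two different involutions of a 2-subgroup of `N(M)`: one of them centralizes an element of `M#` -/
theorem exists_commute {s t : G} (hs : s ∈ normalizer ((M : Subgroup G) : Set G))
    (ht : t ∈ normalizer ((M : Subgroup G) : Set G)) (hs2 : s * s = 1) (ht2 : t * t = 1) (hst : s ≠ t) {k : ℕ}
    (h2 : (t⁻¹ * s) ^ 2 ^ k = 1) (hs1 : s ≠ 1) (ht1 : t ≠ 1) :
    ∃ g ∈ (M : Subgroup G), g ≠ 1 ∧ ∃ u : G, u * u = 1 ∧ u ≠ 1 ∧ u * g = g * u := by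
  by_contra hc
  push Not at hc
  have key : ∀ u : G, u ∈ normalizer ((M : Subgroup G) : Set G) → u * u = 1 → u ≠ 1 →
      ∀ x ∈ (M : Subgroup G), u * x * u⁻¹ = x⁻¹ := by
    intro u hu hu2 hu1 x hx
    have hui : u⁻¹ = u := inv_eq_of_mul_eq_one_left hu2
    have h1 : u * x * u⁻¹ ∈ (M : Subgroup G) := (mem_normalizer_iff.1 hu x).1 hx
    by_contra hne
    have hy : x * (u * x * u⁻¹) ≠ 1 := fun h => hne (eq_inv_of_mul_eq_one_right h)
    refine hc _ (mul_mem hx h1) hy u hu2 hu1 ?_
    rw [H.comm hx h1]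
    calc u * (u * x * u⁻¹ * x) = (u * u) * x * u⁻¹ * x := by group
      _ = x * (u * x) := by rw [hu2, one_mul, hui, mul_assoc]
      _ = x * (u * x * u⁻¹) * u := by group
      _ = u * x * u⁻¹ * x * u := by rw [H.comm hx h1]
  have hc2 : t⁻¹ * s ∈ (M : Subgroup G) := by
    rw [← H.self, mem_centralizer_iff]
    intro x hx
    have e1 := key s hs hs2 hs1 x hx
    have e2 := key t ht ht2 ht1 x hx
    rw [← e2] at e1
    calc x * (t⁻¹ * s) = t⁻¹ * (t * x * t⁻¹) * s := by group
      _ = t⁻¹ * (s * x * s⁻¹) * s := by rw [e1]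
      _ = t⁻¹ * s * x := by group
  have h3 := H.el _ hc2
  have h4 : orderOf (t⁻¹ * s) ∣ 3 := orderOf_dvd_of_pow_eq_one h3
  have h5 : orderOf (t⁻¹ * s) ∣ 2 ^ k := orderOf_dvd_of_pow_eq_one h2
  have h6 : orderOf (t⁻¹ * s) ∣ 1 := by
    have : Nat.Coprime 3 (2 ^ k) := Nat.Coprime.pow_right k (by norm_num)
    rw [← this]
    exact Nat.dvd_gcd h4 h5
  have h7 : t⁻¹ * s = 1 := orderOf_eq_one_iff.1 (Nat.dvd_one.1 h6)
  exact hst (inv_mul_eq_one.1 h7).symm

/-- if `N(M)` has dihedral Sylow 2-subgroups of order 8, then all elements of order 3 commute with an involution -/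
theorem all_even (S : Sylow 2 ↥(normalizer ((M : Subgroup G) : Set G)))
    (e : ↥(S : Subgroup ↥(normalizer ((M : Subgroup G) : Set G))) ≃* DihedralGroup 4) {x : G} (hx : orderOf x = 3) :
    Nat.card (centralizer ({x} : Set G)) = 18 := by
  have hS : Nat.card ↥(S : Subgroup ↥(normalizer ((M : Subgroup G) : Set G))) = 8 := by
    rw [Nat.card_congr e.toEquiv, DihedralGroup.nat_card]
  have hN := H.card_of_sylow S hS (Or.inl rfl)
  have hcv : ∀ d : DihedralGroup 4, d * d = 1 → ((e.symm d).1.1 : G) * (e.symm d).1.1 = 1 := by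
    intro d hd
    have h1 : e.symm d * e.symm d = 1 := by rw [← map_mul, hd, map_one]
    exact congrArg (fun y => (y.1.1 : G)) h1
  have hinj : ∀ d d' : DihedralGroup 4, ((e.symm d).1.1 : G) = (e.symm d').1.1 → d = d' := by
    intro d d' h
    exact e.symm.injective (Subtype.ext (Subtype.ext h))
  have h1 : ((e.symm 1).1.1 : G) = 1 := by rw [map_one]; rfl
  have hpow : (((e.symm (DihedralGroup.sr 1)).1.1 : G)⁻¹ * (e.symm (DihedralGroup.sr 0)).1.1) ^ 2 ^ 3 = 1 := by
    have h2 : ((e.symm (DihedralGroup.sr 1))⁻¹ * (e.symm (DihedralGroup.sr 0))) ^ 8 = 1 := by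
      rw [← hS]
      exact pow_card_eq_one'
    have h3 := congrArg (fun y => (y.1.1 : G)) h2
    exact h3
  obtain ⟨g, hg, hg1, u, hu2, hu1, hug⟩ := H.exists_commute (s := (e.symm (DihedralGroup.sr 0)).1.1)
    (t := (e.symm (DihedralGroup.sr 1)).1.1) (e.symm (DihedralGroup.sr 0)).1.2
    (e.symm (DihedralGroup.sr 1)).1.2 (hcv _ (by decide)) (hcv _ (by decide))
    (fun h => absurd (hinj _ _ h) (by decide)) hpow (fun h => absurd (hinj _ _ (h.trans h1.symm)) (by decide))
    (fun h => absurd (hinj _ _ (h.trans h1.symm)) (by decide))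
  have hne9 : Nat.card (centralizer ({g} : Set G)) ≠ 9 := by
    intro h9
    have h2 : u ∈ centralizer ({g} : Set G) := mem_centralizer_singleton_iff.2 hug
    have h3 : orderOf u = 2 := orderOf_eq_prime (by rw [pow_two]; exact hu2) hu1
    have h4 : Nat.card (zpowers u) ∣ Nat.card (centralizer ({g} : Set G)) :=
      card_dvd_of_le (zpowers_le.2 h2)
    rw [Nat.card_zpowers, h3, h9] at h4
    omega
  rcases H.all_or_none hN with h | h
  · obtain ⟨a, ha1, ha2⟩ := exists_conj (M := M) hx
    rw [← card_cent_conj x a]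
    exact h _ ha1 ha2
  · exact absurd (h g hg hg1) hne9

end Hyp

end Cfsg.Agent.H435.Nine
end

-- part: H435/Small
section
/-!
# Elements of order 15 in `A₈` and `M₂₃` (helper435)
-/

set_option autoImplicit false

namespace Cfsg.Agent.H435.Small

open Cfsg Cfsg.Agent.H435.Elts

theorem bigCent_of_fifteen {G : Type*} [Group G] {g : G} (h : orderOf g = 15) : BigCent G 5 := by
  refine ⟨g ^ 5, Subgroup.zpowers (g ^ 3), ?_, ?_, ?_⟩
  · rw [orderOf_pow' g (by norm_num), h]; rfl
  · intro y hy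
    obtain ⟨k, rfl⟩ := Subgroup.mem_zpowers_iff.1 hy
    exact (((Commute.refl g).pow_left 3).zpow_left k).pow_right 5
  · rw [Nat.card_zpowers, orderOf_pow' g (by norm_num), h]; rfl

theorem orderOf_fifteen {G : Type*} [Group G] {g : G} (h : g ^ 15 = 1) (h5 : g ^ 5 ≠ 1) (h3 : g ^ 3 ≠ 1) :
    orderOf g = 15 := by
  apply orderOf_eq_of_pow_and_pow_div_prime (by norm_num) h
  intro p hp hd
  have h1 : p ∣ 3 * 5 := hd
  rcases (hp.dvd_mul).1 h1 with h2 | h2
  · rw [(Nat.prime_dvd_prime_iff_eq hp Nat.prime_three).1 h2]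
    exact h5
  · rw [(Nat.prime_dvd_prime_iff_eq hp Nat.prime_five).1 h2]
    exact h3

/-! ### `A₈` -/

/-- `(0 1 2)(3 4 5 6 7)` -/
def p8 : Equiv.Perm (Fin 8) where
  toFun := ![1, 2, 0, 4, 5, 6, 7, 3]
  invFun := ![2, 0, 1, 7, 3, 4, 5, 6]
  left_inv := by decide
  right_inv := by decide

theorem p8_pow : p8 ^ 15 = 1 ∧ p8 ^ 5 ≠ 1 ∧ p8 ^ 3 ≠ 1 := by decide

theorem p8_sign : Equiv.Perm.sign p8 = 1 := by
  have h : Equiv.Perm.sign p8 ^ 15 = 1 := by rw [← map_pow, p8_pow.1, map_one]
  rcases Int.units_eq_one_or (Equiv.Perm.sign p8) with h1 | h1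
  · exact h1
  · rw [h1] at h
    exact absurd h (by decide)

theorem alt8 : BigCent (alternatingGroup (Fin 8)) 5 := by
  refine bigCent_of_fifteen (g := ⟨p8, p8_sign⟩) (orderOf_fifteen ?_ ?_ ?_)
  · exact Subtype.ext p8_pow.1
  · intro h
    exact p8_pow.2.1 (congrArg Subtype.val h)
  · intro h
    exact p8_pow.2.2 (congrArg Subtype.val h)

/-! ### `M₂₃` -/

open Cfsg.Agent.SporadicStructure.M24El Cfsg.Agent.SporadicA.GolayBase Cfsg.Agent.SporadicA.GolayPerm

/-- a packed permutation of order 15 -/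
def P15 : ℕ := 979566201586312212351321845966310731

theorem ok_P15 : ok P15 = true := by decide +kernel

theorem el_pow (k : ℕ) : el P15 ^ k = el (prodW [P15] (List.replicate k 0)) := by
  rw [el_prodW (by intro P hP; rw [List.mem_singleton.1 hP]; exact ok_P15)]
  simp only [_root_.List.getD_eq_getElem?_getD, _root_.List.map_replicate, _root_.List.length_cons, _root_.List.length_nil, _root_.zero_add, _root_.Order.lt_one_iff, _root_.getElem?_pos, _root_.List.getElem_cons_zero, _root_.Option.getD_some, _root_.List.prod_replicate]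

theorem ok_pow (k : ℕ) : ok (prodW [P15] (List.replicate k 0)) = true :=
  ok_prodW (by intro P hP; rw [List.mem_singleton.1 hP]; exact ok_P15) _

theorem el_pow_ne {Q k : ℕ} (hQ : prodW [P15] (List.replicate k 0) = Q) (h : papp Q 0 ≠ 0) : el P15 ^ k ≠ 1 := by
  rw [el_pow]
  intro h1
  have h2 := idx_el_smul (ok_pow k) (pt 0)
  rw [h1, one_smul, idx_pt (by norm_num), hQ] at h2
  exact h h2.symm

theorem el_15 : el P15 ^ 15 = 1 := by
  rw [el_pow, ← el_idP]
  have h : prodW [P15] (List.replicate 15 0) = idP := by decide +kernel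
  rw [h]

theorem el_5 : el P15 ^ 5 ≠ 1 := el_pow_ne rfl (by decide +kernel)

theorem el_3 : el P15 ^ 3 ≠ 1 := el_pow_ne rfl (by decide +kernel)

theorem el_fix : (el P15 : Equiv.Perm GolayPt) none = none := by
  have h : (el P15 : Equiv.Perm GolayPt) none = pt (papp P15 (idx none)) := el_smul_pt ok_P15 none
  rw [h]
  decide +kernel

theorem m23 : BigCent Spor.M23 5 := by
  have hm : (el P15 : Equiv.Perm GolayPt) ∈ Spor.M23 := by
    refine Subgroup.mem_inf.2 ⟨(el P15).2, ?_⟩
    rw [MulAction.mem_stabilizer_iff]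
    exact el_fix
  have hv : ∀ k : ℕ, (⟨(el P15 : Equiv.Perm GolayPt), hm⟩ : Spor.M23) ^ k = 1 ↔ el P15 ^ k = 1 := by
    intro k
    rw [Subtype.ext_iff, Subtype.ext_iff, SubmonoidClass.coe_pow, SubmonoidClass.coe_pow]
    rfl
  exact bigCent_of_fifteen (g := ⟨(el P15 : Equiv.Perm GolayPt), hm⟩)
    (orderOf_fifteen ((hv 15).2 el_15) (fun h => el_5 ((hv 5).1 h)) (fun h => el_3 ((hv 3).1 h)))

end Cfsg.Agent.H435.Small
end

-- part: H435/Elim
section
/-!
# Simple groups with a self-centralizing TI Sylow 3-subgroup of order 9 (helper435)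
-/

set_option autoImplicit false

namespace Cfsg.Agent.H435.Elim

open Cfsg Cfsg.Agent.H435 Cfsg.Agent.H435.Cases Cfsg.Agent.H435.Ord Cfsg.Agent.H435.Nine Cfsg.Agent.H435.Elts Subgroup

/-- a Sylow 3-subgroup of `PSL₂(q)`, `3 ∤ q`, is cyclic -/
theorem psl2_cyclic {F : Type*} [Field F] [Finite F] (h3 : (3 : F) ≠ 0)
    (P : Sylow 3 (Matrix.ProjectiveSpecialLinearGroup (Fin 2) F)) : IsCyclic P := by
  obtain ⟨p, hp⟩ := CharP.exists F
  have hpp : p.Prime := (CharP.char_is_prime_or_zero F p).resolve_right (CharP.char_ne_zero_of_finite F p)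
  haveI : Fact p.Prime := ⟨hpp⟩
  have hp3 : 3 ≠ p := by
    rintro rfl
    exact h3 (CharP.cast_eq_zero F 3)
  obtain ⟨Q⟩ : Nonempty (Sylow 3 (Matrix.SpecialLinearGroup (Fin 2) F)) := inferInstance
  have hQ : IsCyclic ↥(Q : Subgroup (Matrix.SpecialLinearGroup (Fin 2) F)) :=
    S0262.isCyclic_of_isPGroup p 3 (by norm_num) hp3 _ Q.isPGroup'
  have hs : Function.Surjective (QuotientGroup.mk' (Subgroup.center (Matrix.SpecialLinearGroup (Fin 2) F))) :=
    QuotientGroup.mk'_surjective _
  let R : Sylow 3 (Matrix.ProjectiveSpecialLinearGroup (Fin 2) F) := Q.mapSurjective hs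
  have hR : IsCyclic ↥(R : Subgroup (Matrix.ProjectiveSpecialLinearGroup (Fin 2) F)) := by
    have : (R : Subgroup (Matrix.ProjectiveSpecialLinearGroup (Fin 2) F)) =
      (Q : Subgroup _).map (QuotientGroup.mk' (Subgroup.center (Matrix.SpecialLinearGroup (Fin 2) F))) := rfl
    rw [this]
    exact isCyclic_of_surjective _ (MonoidHom.subgroupMap_surjective _ _)
  exact isCyclic_of_surjective _ (Sylow.equiv R P).surjective

section

variable {G : Type*} [Group G] [Finite G] {M : Sylow 3 G}

theorem big (H : Hyp M) {k : ℕ} (h : BigCent G k) : k ∣ 18 := by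
  obtain ⟨x, V, hx, hV, rfl⟩ := h
  exact H.card_dvd hx hV

theorem nine_dvd_card (H : Hyp M) : 9 ∣ Nat.card G := by
  rw [← H.nine]; exact card_subgroup_dvd_card _

theorem not27 (H : Hyp M) : ¬ 27 ∣ Nat.card G := by
  intro h
  have h1 := M.card_eq_multiplicity
  rw [H.nine] at h1
  have h2 : 3 ^ 3 ∣ Nat.card G := h
  rw [Nat.Prime.pow_dvd_iff_le_factorization Nat.prime_three Nat.card_pos.ne'] at h2
  have h3 : 3 ^ 3 ≤ 3 ^ (Nat.card G).factorization 3 := Nat.pow_le_pow_right (by norm_num) h2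
  omega

theorem count (H : Hyp M) {k : ℕ} (hN : Nat.card (normalizer ((M : Subgroup G) : Set G)) = 9 * k) :
    ∃ m : ℕ, Nat.card G = 9 * k * m ∧ m % 9 = 1 :=
  ⟨(normalizer ((M : Subgroup G) : Set G)).index, by rw [← hN, card_mul_index], H.modEq⟩

end

theorem three_ne {F : Type*} [Field F] [Fintype F] (h : ¬ 3 ∣ Fintype.card F) : (3 : F) ≠ 0 := by
  intro h3
  obtain ⟨p, hp⟩ := CharP.exists F
  have hpp : p.Prime := (CharP.char_is_prime_or_zero F p).resolve_right (CharP.char_ne_zero_of_finite F p)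
  have h1 : p ∣ 3 := (CharP.cast_eq_zero_iff F p 3).1 (by exact_mod_cast h3)
  have h2 := (Nat.prime_dvd_prime_iff_eq hpp Nat.prime_three).1 h1
  subst h2
  obtain ⟨n, -, hn⟩ := FiniteField.card F 3
  apply h
  rw [hn]
  exact dvd_pow_self _ n.pos.ne'

theorem not_cyclic {G : Type*} [Group G] [Finite G] {M : Sylow 3 G} (H : Hyp M) :
    ¬ IsCyclic ↥(M : Subgroup G) := by
  intro hc
  obtain ⟨g, hg⟩ := IsCyclic.exists_ofOrder_eq_natCard (α := ↥(M : Subgroup G))
  have h1 : orderOf g ∣ 3 := by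
    apply orderOf_dvd_of_pow_eq_one
    exact Subtype.ext (H.el _ g.2)
  rw [hg, H.nine] at h1
  norm_num at h1

theorem elim {G : Type*} [Group G] [Finite G] [IsSimpleGroup G] (hna : ¬ IsMulCommutative G) {M : Sylow 3 G}
    (H : Hyp M) {k : ℕ} (hk : k = 8 ∨ k = 16)
    (hN : Nat.card (normalizer ((M : Subgroup G) : Set G)) = 9 * k) :
    (k = 16 ∧ Spor.IsoM11 G) ∨
      (k = 8 ∧ ∃ (F : Type) (_ : Field F) (_ : Fintype F), Fintype.card F = 4 ∧
        Nonempty (G ≃* Matrix.ProjectiveSpecialLinearGroup (Fin 3) F)) := by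
  have h9 := nine_dvd_card H
  have h27 := not27 H
  obtain ⟨m, hm, hm9⟩ := count H hN
  rcases Cases.not27 hna h27 (Dvd.dvd.trans (by norm_num) h9) with h | h | h | h | h | h | h | h | h
  · obtain ⟨n, hn, hn8, ⟨e⟩⟩ := h
    have hc := alt_card hn e
    interval_cases n
    · rw [show Nat.factorial 5 = 120 from rfl] at hc
      omega
    · rw [show Nat.factorial 6 = 720 from rfl] at hc
      rcases hk with rfl | rfl <;> (clear * - hm9 hc hm; omega)
    · rw [show Nat.factorial 7 = 5040 from rfl] at hc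
      rcases hk with rfl | rfl <;> (clear * - hm9 hc hm; omega)
    · have := big H (Small.alt8.congr e.symm)
      norm_num at this
  · obtain ⟨F, _, _, n, hn, hn2, ⟨e⟩⟩ := h
    have hq : 1 < Fintype.card F := Fintype.one_lt_card
    by_cases hn4 : 4 ≤ n
    · have h1 := big H ((Elts.psl (F := F) hn4).congr e.symm)
      have h2 := psl_dvd (F := F) hn4
      rw [← Nat.card_congr e.toEquiv] at h2
      generalize Fintype.card F = q at *
      have hle : q ≤ 4 := by
        by_contra hlt
        have := Nat.le_of_dvd (by norm_num) h1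
        nlinarith only [hlt, this]
      interval_cases q
      · norm_num at h1
      · exact absurd (Dvd.dvd.trans (by norm_num) h2) h27
      · norm_num at h1
    obtain rfl | rfl : n = 2 ∨ n = 3 := by omega
    · by_cases h3 : 3 ∣ Fintype.card F
      · have hc := psl2_card (F := F)
        rw [← Nat.card_congr e.toEquiv] at hc
        have hq4 := hn2 rfl
        clear hn2
        obtain ⟨p, hcp⟩ := CharP.exists F
        obtain ⟨n, hp, hpn⟩ := FiniteField.card F p
        have hp3 : p = 3 := by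
          have : 3 ∣ p ^ (n : ℕ) := by rw [← hpn]; exact h3
          exact ((Nat.prime_dvd_prime_iff_eq Nat.prime_three hp).1 (Nat.prime_three.dvd_of_dvd_pow this)).symm
        subst hp3
        have hn3 : (n : ℕ) < 3 := by
          by_contra hlt
          have h27' : 27 ∣ Fintype.card F := by
            rw [hpn]
            exact pow_dvd_pow 3 (show 3 ≤ (n : ℕ) by omega)
          apply h27
          have h1 : 27 ∣ Nat.gcd 2 (Fintype.card F - 1) * Nat.card G := by
            rw [hc]
            exact h27'.mul_right _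
          have h2 : Nat.Coprime 27 (Nat.gcd 2 (Fintype.card F - 1)) :=
            Nat.Coprime.coprime_dvd_right (Nat.gcd_dvd_left _ _) (by norm_num)
          exact h2.dvd_of_dvd_mul_left h1
        have hn0 := n.pos
        generalize (n : ℕ) = a at *
        interval_cases a
        · omega
        · rw [hpn] at hc
          norm_num at hc
          rcases hk with rfl | rfl <;> (clear * - hm9 hc hm; omega)
      · exfalso
        have hcyc := psl2_cyclic (three_ne h3) (M.mapSurjective (f := e.toMonoidHom) e.surjective)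
        apply not_cyclic H
        have e2 : ↥(M : Subgroup G) ≃* ↥((M : Subgroup G).map e.toMonoidHom) :=
          (M : Subgroup G).equivMapOfInjective _ e.injective
        have hcyc' : IsCyclic ↥((M : Subgroup G).map e.toMonoidHom) := hcyc
        exact isCyclic_of_surjective e2.symm e2.symm.surjective
    · have hc := psl3_card (F := F)
      rw [← Nat.card_congr e.toEquiv] at hc
      have h012 : Fintype.card F % 3 = 0 ∨ Fintype.card F % 3 = 1 ∨ Fintype.card F % 3 = 2 := by omega
      rcases h012 with h0 | h0 | h0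
      · exfalso
        generalize Fintype.card F = q at *
        have h27' : 27 ∣ q ^ 3 := by
          obtain ⟨r, rfl⟩ := Nat.dvd_of_mod_eq_zero h0
          exact ⟨r ^ 3, by ring⟩
        have h27' : 27 ∣ Nat.gcd 3 (q - 1) * Nat.card G := by
          rw [hc]; exact h27'.mul_right _
        have hg : Nat.gcd 3 (q - 1) = 1 := by
          rw [← Nat.coprime_iff_gcd_eq_one, Nat.Prime.coprime_iff_not_dvd Nat.prime_three]
          omega
        rw [hg, one_mul] at h27'
        exact h27 h27'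
      · have h1 := big H ((Elts.psl3_one (F := F) (by omega)).congr e.symm)
        have hle := Nat.le_of_dvd (by norm_num) h1
        have hcase : Fintype.card F = 4 ∨ Fintype.card F = 7 ∨ Fintype.card F = 10 ∨ Fintype.card F = 19 := by
          generalize Fintype.card F = q at *
          have : q ≤ 19 := by omega
          interval_cases q <;> (clear * - h0 h1; omega)
        rcases hcase with h4 | h7 | h10 | h19
        · right
          refine ⟨?_, F, inferInstance, inferInstance, h4, ⟨e⟩⟩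
          rw [h4] at hc
          norm_num at hc
          rcases hk with rfl | rfl
          · rfl
          · omega
        · exfalso
          rw [h7] at hc
          norm_num at hc
          rcases hk with rfl | rfl <;> (clear * - hm9 hc hm; omega)
        · exfalso
          rw [h10] at hc
          norm_num at hc
          rcases hk with rfl | rfl <;> (clear * - h27 hc h9; omega)
        · exfalso
          rw [h19] at hc
          norm_num at hc
          rcases hk with rfl | rfl <;> (clear * - h27 hc h9; omega)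
      · exfalso
        have h1 := big H ((Elts.psl3_two (F := F) (by omega)).congr e.symm)
        have hle := Nat.le_of_dvd (by norm_num) h1
        have hcase : Fintype.card F = 2 := by
          generalize Fintype.card F = q at *
          have : q ≤ 19 := by omega
          interval_cases q <;> (clear * - h0 h1; omega)
        rw [hcase] at hc
        norm_num at hc
        rcases hk with rfl | rfl <;> omega
  · obtain ⟨F, _, _, hq, ⟨e⟩⟩ := h
    exfalso
    have h1 := big H ((Elts.psp F).congr e.symm)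
    have hc := psp_card (F := F) 2 (by norm_num)
    rw [← Nat.card_congr e.toEquiv] at hc
    have hle := Nat.le_of_dvd (by norm_num) h1
    have h3 : 3 ∣ Fintype.card F := by
      generalize Fintype.card F = q at *
      interval_cases q <;> (clear * - h1; omega)
    have h2 : 27 ∣ Nat.gcd 2 (Fintype.card F - 1) * Nat.card G := by
      rw [hc]
      apply Dvd.dvd.mul_right
      obtain ⟨r, hr⟩ := h3
      exact ⟨3 * r ^ 4, by rw [hr]; ring⟩
    have h4 : Nat.Coprime 27 (Nat.gcd 2 (Fintype.card F - 1)) :=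
      Nat.Coprime.coprime_dvd_right (Nat.gcd_dvd_left _ _) (by norm_num)
    exact h27 (h4.dvd_of_dvd_mul_left h2)
  · obtain ⟨F, _, _, n, q, hF, hn, hn2, ⟨e⟩⟩ := h
    exfalso
    have hq : 2 ≤ q := by
      have : 1 < Fintype.card F := Fintype.one_lt_card
      rw [hF] at this
      by_contra hlt
      have : q ≤ 1 := by omega
      nlinarith
    by_cases hn4 : 4 ≤ n
    · have h1 := big H ((Elts.psu hF hn4).congr e.symm)
      have h2 := psu_dvd hF hn4
      rw [← Nat.card_congr e.toEquiv] at h2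
      have hle := Nat.le_of_dvd (by norm_num) h1
      by_cases h3 : 3 ∣ q
      · apply h27
        refine Dvd.dvd.trans ?_ h2
        apply Dvd.dvd.mul_right
        have h4 : 27 ∣ q ^ 3 := by
          obtain ⟨r, rfl⟩ := h3
          exact ⟨r ^ 3, by ring⟩
        refine h4.trans (pow_dvd_pow _ ?_)
        have : 4 * 3 ≤ n * (n - 1) := Nat.mul_le_mul hn4 (by omega)
        omega
      · have hq2 : q = 2 := by interval_cases q <;> (clear * - h3 h1; omega)
        subst hq2
        apply h27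
        refine Dvd.dvd.trans ?_ h2
        apply Dvd.dvd.mul_left
        norm_num
    · obtain rfl : n = 3 := by omega
      have hc := psu3_card hF
      rw [← Nat.card_congr e.toEquiv] at hc
      have h012 : q % 3 = 0 ∨ q % 3 = 1 ∨ q % 3 = 2 := by omega
      rcases h012 with h0 | h0 | h0
      · have h27' : 27 ∣ q ^ 3 := by
          obtain ⟨r, rfl⟩ := Nat.dvd_of_mod_eq_zero h0
          exact ⟨r ^ 3, by ring⟩
        have h27' : 27 ∣ Nat.gcd 3 (q + 1) * Nat.card G := by
          rw [hc]; exact h27'.mul_right _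
        have hg : Nat.gcd 3 (q + 1) = 1 := by
          rw [← Nat.coprime_iff_gcd_eq_one, Nat.Prime.coprime_iff_not_dvd Nat.prime_three]
          omega
        rw [hg, one_mul] at h27'
        exact h27 h27'
      · have h3F : (3 : F) ≠ 0 := three_ne (by
          rw [hF]
          intro h
          have := Nat.prime_three.dvd_of_dvd_pow h
          omega)
        have h1 := big H ((Elts.psu3_one hF (by omega) h3F).congr e.symm)
        have hle := Nat.le_of_dvd (by norm_num) h1
        have : q ≤ 17 := by omega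
        interval_cases q <;> (clear * - h0 h1; omega)
      · have h1 := big H ((Elts.psu3_two hF (by omega)).congr e.symm)
        have hle := Nat.le_of_dvd (by norm_num) h1
        have hcase : q = 5 ∨ q = 8 ∨ q = 17 := by
          have : q ≤ 17 := by omega
          interval_cases q <;> (clear * - hn2 h0 h1; omega)
        rcases hcase with rfl | rfl | rfl <;> norm_num only [] at hc <;> rcases hk with rfl | rfl <;> (clear * - hm9 hc hm h27 h9; omega)
  · left
    refine ⟨?_, h.1⟩
    rcases hk with rfl | rfl <;> omega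
  all_goals exfalso
  · rcases hk with rfl | rfl <;> (clear * - hm9 h hm; omega)
  · have := big H (Small.m23.congr h.1.some.symm)
    norm_num at this
  · rcases hk with rfl | rfl <;> (clear * - hm9 h hm; omega)
  · omega

end Cfsg.Agent.H435.Elim
end
end

-- part: H435/Quot_mg
section
set_option linter.all false
open scoped Cfsg.Agent.FastGrp

-- part: H435/Quot
section
/-!
# Groups with trivial `O_{3'}` and Sylow 3-subgroups of order 3 (helper435)
-/

set_option autoImplicit false

namespace Cfsg.Agent.H435.Quot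

open Cfsg Subgroup Cfsg.Agent.H435 Cfsg.Agent.Lib.Cores

variable {H : Type*} [Group H] [Finite H]

/-- a normal subgroup of order divisible by 3 contains the elements of order 3 -/
theorem mem_of_normal (h9 : ¬ 9 ∣ Nat.card H) {N : Subgroup H} (hN : N.Normal) (h3 : 3 ∣ Nat.card N) {y : H}
    (hy : orderOf y = 3) : y ∈ N := by
  obtain ⟨z, hz⟩ := exists_prime_orderOf_dvd_card' (G := N) 3 h3
  obtain ⟨g, hg⟩ := Three.exists_conj h9 (x := (z : H)) (y := y) (by rw [Subgroup.orderOf_coe, hz]) hy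
  have h1 : zpowers (g * z * g⁻¹) ≤ N := by
    rw [zpowers_le]
    exact hN.conj_mem _ z.2 g
  exact h1 (by rw [hg]; exact mem_zpowers y)

theorem nine_sub (h9 : ¬ 9 ∣ Nat.card H) (L : Subgroup H) : ¬ 9 ∣ Nat.card L :=
  fun h => h9 (h.trans (card_subgroup_dvd_card L))

/-- the normal closure of an element of order 3 is simple -/
theorem simple (h9 : ¬ 9 ∣ Nat.card H) (hO : pPrimeCore 3 H = ⊥) {y : H} (hy : orderOf y = 3) :
    IsSimpleGroup ↥(normalClosure ({y} : Set H)) := by
  set L := normalClosure ({y} : Set H) with hL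
  have hLn : L.Normal := normalClosure_normal
  have hyL : y ∈ L := subset_normalClosure rfl
  have hy1 : y ≠ 1 := by
    rintro rfl
    rw [orderOf_one] at hy
    omega
  have : Nontrivial L := ⟨⟨⟨y, hyL⟩, 1, fun h => hy1 (congrArg Subtype.val h)⟩⟩
  refine ⟨fun N hN => ?_⟩
  by_cases h3 : 3 ∣ Nat.card N
  · right
    rw [eq_top_iff]
    have h1 : L ≤ N.map L.subtype := by
      have h2 : ∀ g : H, g * y * g⁻¹ ∈ N.map L.subtype := by
        intro g
        have hgy : g * y * g⁻¹ ∈ L := hLn.conj_mem _ hyL g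
        have h3 : (⟨g * y * g⁻¹, hgy⟩ : L) ∈ N := by
          refine mem_of_normal (nine_sub h9 L) hN h3 ?_
          rw [← Subgroup.orderOf_coe]
          change orderOf (MulAut.conj g y) = 3
          rw [MulEquiv.orderOf_eq, hy]
        exact ⟨_, h3, rfl⟩
      refine (closure_le _).2 ?_
      intro z hz
      obtain ⟨g, hg⟩ : ∃ g : H, g * y * g⁻¹ = z := by
        simpa [Group.conjugatesOfSet, conjugatesOf, isConj_iff] using hz
      rw [← hg]
      exact h2 g
    intro z _
    obtain ⟨w, hw, hwz⟩ := h1 z.2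
    have : w = z := Subtype.ext hwz
    rwa [this] at hw
  · left
    have h1 : N ≤ pPrimeCore 3 L := le_pPrimeCore hN
      ((Nat.Prime.coprime_iff_not_dvd Nat.prime_three).2 h3).symm
    have h2 := map_subtype_pPrimeCore 3 hLn
    rw [hO, inf_bot_eq] at h2
    have h3 : pPrimeCore 3 L = ⊥ := by
      rw [eq_bot_iff]
      intro z hz
      have h4 : L.subtype z ∈ (pPrimeCore 3 L).map L.subtype := mem_map_of_mem _ hz
      rw [h2, mem_bot] at h4
      exact mem_bot.2 (Subtype.ext h4)
    rw [eq_bot_iff, ← h3]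
    exact h1

/-- Burnside: in a simple nonabelian group with Sylow 3-subgroups of order 3 an element of order 3 is inverted -/
theorem exists_invert {L : Type*} [Group L] [Finite L] [IsSimpleGroup L] (hna : ¬ IsMulCommutative L)
    (h9 : ¬ 9 ∣ Nat.card L) {y : L} (hy : orderOf y = 3) : ∃ g : L, g * y * g⁻¹ = y⁻¹ := by
  classical
  by_contra hcon
  push Not at hcon
  have h3 : 3 ∣ Nat.card L := by rw [← hy]; exact orderOf_dvd_natCard y
  have hf := Three.factorization h9 h3
  let P : Sylow 3 L := Sylow.ofCard (zpowers y) (by rw [Nat.card_zpowers, hy, hf, pow_one])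
  have hP : (P : Subgroup L) = zpowers y := rfl
  have hNC : normalizer ((P : Subgroup L) : Set L) ≤ centralizer ((P : Subgroup L) : Set L) := by
    intro g hg
    have h1 : g * y * g⁻¹ ∈ zpowers y := by
      have := (mem_normalizer_iff.1 hg y).1 (by rw [hP]; exact mem_zpowers y)
      rwa [hP] at this
    have h2 : g * y * g⁻¹ = y := by
      obtain ⟨n, hn, hn2⟩ := (mem_zpowers_iff_mem_range_orderOf.1 h1 |> Finset.mem_image.1)
      rw [Finset.mem_range, hy] at hn
      interval_cases n
      · exfalso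
        simp only [pow_zero] at hn2
        have : y = 1 := by
          have h4 : y = g⁻¹ * (g * y * g⁻¹) * g := by group
          rw [h4, ← hn2, mul_one, inv_mul_cancel]
        rw [this, orderOf_one] at hy
        omega
      · simp only [pow_one] at hn2
        exact hn2.symm
      · exfalso
        apply hcon g
        rw [← hn2]
        have h4 : y ^ 3 = 1 := by rw [← hy]; exact pow_orderOf_eq_one y
        rw [eq_inv_iff_mul_eq_one, ← pow_succ]
        exact h4
    have h5 : g ∈ centralizer ({y} : Set L) := by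
      rw [mem_centralizer_singleton_iff]
      exact mul_inv_eq_iff_eq_mul.1 h2
    rw [hP, Three.centralizer_zpowers]
    exact h5
  have hcomp := MonoidHom.ker_transferSylow_isComplement' P hNC
  have hdiv := MonoidHom.not_dvd_card_ker_transferSylow P hNC
  rcases (MonoidHom.normal_ker (MonoidHom.transferSylow P hNC)).eq_bot_or_eq_top with h | h
  · have h1 := hcomp.card_mul
    rw [h, card_bot, one_mul, hP, Nat.card_zpowers, hy] at h1
    have : Fact (Nat.Prime 3) := ⟨Nat.prime_three⟩
    have : IsCyclic L := isCyclic_of_prime_card (p := 3) h1.symm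
    exact hna (IsCyclic.isMulCommutative (α := L))
  · rw [h, card_top] at hdiv
    exact hdiv h3

/-- an element of `⟨y⟩` conjugate to `y` (of order 3) is `y` or `y⁻¹` -/
theorem eq_or_inv {y g : H} (hy : orderOf y = 3) (h1 : g * y * g⁻¹ ∈ zpowers y) :
    g * y * g⁻¹ = y ∨ g * y * g⁻¹ = y⁻¹ := by
  classical
  obtain ⟨n, hn, hn2⟩ := (mem_zpowers_iff_mem_range_orderOf.1 h1 |> Finset.mem_image.1)
  rw [Finset.mem_range, hy] at hn
  interval_cases n
  · exfalso
    simp only [pow_zero] at hn2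
    have : y = 1 := by
      have h4 : y = g⁻¹ * (g * y * g⁻¹) * g := by group
      rw [h4, ← hn2, mul_one, inv_mul_cancel]
    rw [this, orderOf_one] at hy
    omega
  · simp only [pow_one] at hn2
    exact Or.inl hn2.symm
  · right
    rw [← hn2]
    have h4 : y ^ 3 = 1 := by rw [← hy]; exact pow_orderOf_eq_one y
    rw [eq_inv_iff_mul_eq_one, ← pow_succ]
    exact h4

/-- no 3'-part in a normal subgroup -/
theorem core_sub (hO : pPrimeCore 3 H = ⊥) {C : Subgroup H} (hC : C.Normal) : pPrimeCore 3 C = ⊥ := by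
  have h2 := map_subtype_pPrimeCore 3 hC
  rw [hO, inf_bot_eq] at h2
  rw [eq_bot_iff]
  intro z hz
  have h4 : C.subtype z ∈ (pPrimeCore 3 C).map C.subtype := mem_map_of_mem _ hz
  rw [h2, mem_bot] at h4
  exact mem_bot.2 (Subtype.ext h4)

theorem case_comm (h9 : ¬ 9 ∣ Nat.card H) (hO : pPrimeCore 3 H = ⊥) {y : H} (hy : orderOf y = 3)
    (hc : IsMulCommutative ↥(normalClosure ({y} : Set H))) :
    Nat.card H = 3 ∨ Nonempty (H ≃* DihedralGroup 3) := by
  have hs := simple h9 hO hy
  set L := normalClosure ({y} : Set H) with hL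
  have hLn : L.Normal := normalClosure_normal
  have hyL : y ∈ L := subset_normalClosure rfl
  have hy1 : y ≠ 1 := by
    rintro rfl
    rw [orderOf_one] at hy
    omega
  have hZ : zpowers (⟨y, hyL⟩ : L) = ⊤ := by
    have hn : (zpowers (⟨y, hyL⟩ : L)).Normal := by
      refine ⟨fun n hn g => ?_⟩
      have : g * n * g⁻¹ = n := by rw [hc.is_comm.comm g n, mul_inv_cancel_right]
      rwa [this]
    refine (hn.eq_bot_or_eq_top).resolve_left ?_
    intro h
    rw [zpowers_eq_bot] at h
    exact hy1 (congrArg Subtype.val h)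
  have hLz : L = zpowers y := by
    apply le_antisymm
    · intro z hz
      have : (⟨z, hz⟩ : L) ∈ zpowers (⟨y, hyL⟩ : L) := by rw [hZ]; exact mem_top _
      obtain ⟨k, hk⟩ := mem_zpowers_iff.1 this
      exact mem_zpowers_iff.2 ⟨k, congrArg Subtype.val hk⟩
    · rw [zpowers_le]; exact hyL
  set C := centralizer ({y} : Set H) with hC
  have hCn : C.Normal := by
    have h1 : C = centralizer (L : Set H) := by rw [hLz, Three.centralizer_zpowers]
    rw [h1]
    infer_instance
  have hyC : y ∈ C := mem_centralizer_singleton_iff.2 rfl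
  have hcentral : ∀ c : C, c * ⟨y, hyC⟩ = ⟨y, hyC⟩ * c := fun c =>
    Subtype.ext (mem_centralizer_singleton_iff.1 c.2)
  have hyo : orderOf (⟨y, hyC⟩ : C) = 3 := by rw [← Subgroup.orderOf_coe]; exact hy
  have h3C : 3 ∣ Nat.card C := by rw [← hyo]; exact orderOf_dvd_natCard _
  have hf := Three.factorization (nine_sub h9 C) h3C
  let P : Sylow 3 C := Sylow.ofCard (zpowers ⟨y, hyC⟩) (by rw [Nat.card_zpowers, hyo, hf, pow_one])
  have hP : (P : Subgroup C) = zpowers ⟨y, hyC⟩ := rfl
  have hNC : normalizer ((P : Subgroup C) : Set C) ≤ centralizer ((P : Subgroup C) : Set C) := by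
    intro g _
    rw [hP, Three.centralizer_zpowers, mem_centralizer_singleton_iff]
    exact hcentral g
  have hcomp := MonoidHom.ker_transferSylow_isComplement' P hNC
  have hdiv := MonoidHom.not_dvd_card_ker_transferSylow P hNC
  have hker : (MonoidHom.transferSylow P hNC).ker = ⊥ := by
    rw [eq_bot_iff, ← core_sub hO hCn]
    exact le_pPrimeCore (MonoidHom.normal_ker _) ((Nat.Prime.coprime_iff_not_dvd Nat.prime_three).2 hdiv).symm
  have hC3 : Nat.card C = 3 := by
    have h1 := hcomp.card_mul_card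
    rw [hker, card_bot, one_mul, hP, Nat.card_zpowers, hyo] at h1
    exact h1.symm
  have hconj : ∀ g : H, g * y * g⁻¹ = y ∨ g * y * g⁻¹ = y⁻¹ := by
    intro g
    apply eq_or_inv hy
    rw [← hLz]
    exact hLn.conj_mem _ hyL g
  have hmem : ∀ g : H, g ∈ C ↔ g * y * g⁻¹ = y := by
    intro g
    rw [hC, mem_centralizer_singleton_iff, mul_inv_eq_iff_eq_mul]
  by_cases htop : C = ⊤
  · left
    rw [← card_top (G := H), ← htop, hC3]
  · right
    obtain ⟨g, hg⟩ : ∃ g, g ∉ C := by
      by_contra hcon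
      push Not at hcon
      exact htop (eq_top_iff.2 fun g _ => hcon g)
    have hinv : ∀ h : H, h ∉ C → h * y * h⁻¹ = y⁻¹ := fun h hh =>
      (hconj h).resolve_left (fun h1 => hh ((hmem h).2 h1))
    have hidx : C.index = 2 := by
      rw [index_eq_two_iff]
      refine ⟨g, fun b => ?_⟩
      by_cases hb : b ∈ C
      · refine Or.inr ⟨hb, fun hbg => hg ?_⟩
        have := C.mul_mem (C.inv_mem hb) hbg
        rwa [inv_mul_cancel_left] at this
      · refine Or.inl ⟨?_, hb⟩
        rw [hmem]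
        have h1 := hinv g hg
        have h2 := hinv b hb
        calc b * g * y * (b * g)⁻¹ = b * (g * y * g⁻¹) * b⁻¹ := by group
          _ = b * y⁻¹ * b⁻¹ := by rw [h1]
          _ = (b * y * b⁻¹)⁻¹ := by group
          _ = y := by rw [h2, inv_inv]
    have hH6 : Nat.card H = 2 * 3 := by rw [← card_mul_index C, hC3, hidx]
    obtain ⟨t, ht⟩ := exists_prime_orderOf_dvd_card' (G := H) 2 (by rw [hH6]; exact Dvd.intro _ rfl)
    have htC : t ∉ C := by
      intro htC
      have h1 : orderOf t ∣ Nat.card C := by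
        have := orderOf_dvd_natCard (⟨t, htC⟩ : C)
        rwa [← Subgroup.orderOf_coe] at this
      rw [ht, hC3] at h1
      norm_num at h1
    have htt : t * t = 1 := by rw [← pow_two, ← ht]; exact pow_orderOf_eq_one t
    refine Lib.DihedralRecog.dihedral_of_generators (by norm_num) y t hy htt (hinv t htC) ?_ hH6
    intro h
    apply htC
    have : zpowers y ≤ C := by rw [zpowers_le]; exact hyC
    exact this h

/-- the normal closure of `y` has trivial centralizer if it is not commutative -/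
theorem centralizer_eq_bot (h9 : ¬ 9 ∣ Nat.card H) (hO : pPrimeCore 3 H = ⊥) {y : H} (hy : orderOf y = 3)
    (hnc : ¬ IsMulCommutative ↥(normalClosure ({y} : Set H))) :
    centralizer ((normalClosure ({y} : Set H) : Subgroup H) : Set H) = ⊥ := by
  set L := normalClosure ({y} : Set H) with hL
  have hLn : L.Normal := normalClosure_normal
  have hCn : (centralizer (L : Set H)).Normal := inferInstance
  by_cases h3 : 3 ∣ Nat.card (centralizer (L : Set H))
  · exfalso
    have h1 : y ∈ centralizer (L : Set H) := mem_of_normal h9 hCn h3 hy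
    have h2 : L ≤ centralizer (L : Set H) := by
      rw [hL]
      exact normalClosure_le_normal (Set.singleton_subset_iff.2 h1)
    apply hnc
    refine ⟨⟨fun a b => Subtype.ext ?_⟩⟩
    exact (mem_centralizer_iff.1 (h2 b.2) a a.2)
  · rw [eq_bot_iff, ← hO]
    exact le_pPrimeCore hCn ((Nat.Prime.coprime_iff_not_dvd Nat.prime_three).2 h3).symm

/-- Frattini: `H = L C_H(y)` -/
theorem sup_centralizer (h9 : ¬ 9 ∣ Nat.card H) (hO : pPrimeCore 3 H = ⊥) {y : H} (hy : orderOf y = 3)
    (hnc : ¬ IsMulCommutative ↥(normalClosure ({y} : Set H))) :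
    normalClosure ({y} : Set H) ⊔ centralizer ({y} : Set H) = ⊤ := by
  have hs := simple h9 hO hy
  set L := normalClosure ({y} : Set H) with hL
  have hLn : L.Normal := normalClosure_normal
  have hyL : y ∈ L := subset_normalClosure rfl
  have hyo : orderOf (⟨y, hyL⟩ : L) = 3 := by rw [← Subgroup.orderOf_coe]; exact hy
  obtain ⟨j, hj⟩ := exists_invert hnc (nine_sub h9 L) hyo
  have hj' : (j : H) * y * (j : H)⁻¹ = y⁻¹ := congrArg Subtype.val hj
  rw [eq_top_iff]
  intro h _
  have hhL : h * y * h⁻¹ ∈ L := hLn.conj_mem _ hyL h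
  have hho : orderOf (⟨h * y * h⁻¹, hhL⟩ : L) = 3 := by
    rw [← Subgroup.orderOf_coe]
    change orderOf (MulAut.conj h y) = 3
    rw [MulEquiv.orderOf_eq, hy]
  obtain ⟨l, hl⟩ := Three.exists_conj (nine_sub h9 L) hho hyo
  have h1 : ((l : H) * h) * y * ((l : H) * h)⁻¹ ∈ zpowers y := by
    have h2 : l * ⟨h * y * h⁻¹, hhL⟩ * l⁻¹ ∈ zpowers (⟨y, hyL⟩ : L) := by rw [← hl]; exact mem_zpowers _
    obtain ⟨k, hk⟩ := mem_zpowers_iff.1 h2
    refine mem_zpowers_iff.2 ⟨k, ?_⟩
    have h3 : y ^ k = (l : H) * (h * y * h⁻¹) * (l : H)⁻¹ := congrArg Subtype.val hk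
    rw [h3]
    group
  have key : ∀ m : L, ((m : H) * h) * y * ((m : H) * h)⁻¹ = y → h ∈ L ⊔ centralizer ({y} : Set H) := by
    intro m hm
    have h2 : (m : H) * h ∈ centralizer ({y} : Set H) := by
      rw [mem_centralizer_singleton_iff]
      exact mul_inv_eq_iff_eq_mul.1 hm
    have h3 : h = (m : H)⁻¹ * ((m : H) * h) := by group
    rw [h3]
    exact mul_mem (mem_sup_left (L.inv_mem m.2)) (mem_sup_right h2)
  rcases eq_or_inv hy h1 with h2 | h2
  · exact key l h2
  · apply key (j * l)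
    calc ((j * l : L) : H) * h * y * (((j * l : L) : H) * h)⁻¹ =
        (j : H) * (((l : H) * h) * y * ((l : H) * h)⁻¹) * (j : H)⁻¹ := by
          rw [Subgroup.coe_mul]; group
      _ = ((j : H) * y * (j : H)⁻¹)⁻¹ := by rw [h2]; group
      _ = y := by rw [hj', inv_inv]

end Cfsg.Agent.H435.Quot
end

-- part: H435/Sol
section
/-!
# Groups of order prime to 15 are solvable (helper435)
-/

set_option autoImplicit false

namespace Cfsg.Agent.H435.Sol

open Subgroup

universe u

theorem isSolvable_aux (n : ℕ) : ∀ (G : Type u) [Group G] [Finite G], Nat.card G = n → ¬ 3 ∣ n → ¬ 5 ∣ n →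
    Group.IsSolvable G := by
  induction n using Nat.strong_induction_on with
  | _ n ih =>
    intro G _ _ hn h3 h5
    by_cases hex : ∃ N : Subgroup G, N.Normal ∧ N ≠ ⊥ ∧ N ≠ ⊤
    · obtain ⟨N, hN, hNb, hNt⟩ := hex
      rw [Group.isSolvable_iff_subgroup_quotient N]
      have h1 : Nat.card N ∣ Nat.card G := card_subgroup_dvd_card N
      have h2 : Nat.card (G ⧸ N) ∣ Nat.card G := card_quotient_dvd_card N
      have h6 : Nat.card G = Nat.card (G ⧸ N) * Nat.card N := card_eq_card_quotient_mul_card_subgroup N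
      have hpos : 0 < Nat.card G := Nat.card_pos
      have hN1 : Nat.card N ≠ 1 := by rw [Ne, card_eq_one]; exact hNb
      have hN2 : Nat.card N ≠ Nat.card G := fun h => hNt ((card_eq_iff_eq_top N).1 h)
      have hlt1 : Nat.card N < n := by
        rw [← hn]
        exact lt_of_le_of_ne (Nat.le_of_dvd hpos h1) hN2
      have hlt2 : Nat.card (G ⧸ N) < n := by
        rw [← hn]
        refine lt_of_le_of_ne (Nat.le_of_dvd hpos h2) ?_
        intro h
        rw [h] at h6
        apply hN1
        exact Nat.eq_of_mul_eq_mul_left hpos (by rw [mul_one]; exact h6.symm)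
      rw [hn] at h1 h2
      exact ⟨ih _ hlt1 N rfl (fun h => h3 (h.trans h1)) (fun h => h5 (h.trans h1)),
        ih _ hlt2 (G ⧸ N) rfl (fun h => h3 (h.trans h2)) (fun h => h5 (h.trans h2))⟩
    · by_cases htriv : Nontrivial G
      · have hs : IsSimpleGroup G := ⟨fun N hN => by
          by_contra hcon
          push Not at hcon
          exact hex ⟨N, hN, hcon⟩⟩
        by_cases hc : IsMulCommutative G
        · exact Group.isSolvable_of_comm (fun a b => hc.is_comm.comm a b)
        · exfalso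
          have h := ThreePrime.Main.isoSuzuki' (G := G) hc (by rw [hn]; exact h3)
          have h7 := (Cases.suz h).2
          rw [hn] at h7
          exact h5 h7
      · have : Subsingleton G := not_nontrivial_iff_subsingleton.1 htriv
        infer_instance

/-- a finite group of order prime to 15 is solvable -/
theorem isSolvable {G : Type u} [Group G] [Finite G] (h3 : ¬ 3 ∣ Nat.card G) (h5 : ¬ 5 ∣ Nat.card G) :
    Group.IsSolvable G := isSolvable_aux _ G rfl h3 h5

end Cfsg.Agent.H435.Sol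
end
end

-- part: H435/Pgl
section
set_option linter.all false
open scoped Cfsg.Agent.FastGrp

/-!
# Groups between `PSL₂(p)` and its automorphism group (helper435)
-/

set_option autoImplicit false

namespace Cfsg.Agent.H435.Pgl

open Subgroup Cfsg.Agent.GH.L2Aut

theorem isSquare_mul {F : Type*} [Field F] [Finite F] {a b : F} (ha : ¬ IsSquare a) (hb : ¬ IsSquare b) :
    IsSquare (a * b) := by
  classical
  have := Fintype.ofFinite F
  have h0 : a * b ≠ 0 := by
    intro h
    rcases mul_eq_zero.1 h with h | h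
    · exact ha (h ▸ IsSquare.zero)
    · exact hb (h ▸ IsSquare.zero)
  rw [← quadraticChar_one_iff_isSquare h0, map_mul, quadraticChar_neg_one_iff_not_isSquare.2 ha,
    quadraticChar_neg_one_iff_not_isSquare.2 hb]
  norm_num

/-- `GL₂(F) / Z` is the automorphism group if `F` has no automorphisms -/
theorem autEquiv {F : Type*} [Field F] [Finite F] {L : Type*} [Group L] (R : GH.L2Aut.Rep F L)
    (hF : ∀ σ : F ≃+* F, σ = 1) : Nonempty (GL (Fin 2) F ⧸ Subgroup.center (GL (Fin 2) F) ≃* MulAut L) ∧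
      ∀ α : MulAut L, ∃ g : GL (Fin 2) F, α = R.gl g := by
  have hsurj : ∀ α : MulAut L, ∃ g : GL (Fin 2) F, α = R.gl g := by
    intro α
    obtain ⟨g, hg⟩ := R.exists_eq α
    rw [hF (R.fld α), map_one, mul_one] at hg
    exact ⟨g, hg⟩
  refine ⟨?_, hsurj⟩
  have hker : R.gl.ker = Subgroup.center (GL (Fin 2) F) := by
    ext g
    rw [MonoidHom.mem_ker]
    constructor
    · intro h
      obtain ⟨c, hc⟩ := R.gl_eq_one_iff.1 h
      rw [Subgroup.mem_center_iff]
      intro x
      apply Units.ext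
      rw [Units.val_mul, Units.val_mul, hc, mul_smul_comm, smul_mul_assoc, mul_one, one_mul]
    · intro h
      apply R.ext_π
      intro x
      rw [R.gl_apply]
      have h1 : Cfsg.Agent.Lib.SL2Mat.conjGL g x = x := by
        apply Subtype.ext
        have h2 : g * Matrix.SpecialLinearGroup.toGL x * g⁻¹ = Matrix.SpecialLinearGroup.toGL x := by
          rw [← Subgroup.mem_center_iff.1 h, mul_inv_cancel_right]
        exact congrArg Units.val h2
      rw [h1]
      rfl
  have hs : Function.Surjective R.gl := fun α => by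
    obtain ⟨g, hg⟩ := hsurj α
    exact ⟨g, hg.symm⟩
  exact ⟨(QuotientGroup.quotientMulEquivOfEq hker.symm).trans (QuotientGroup.quotientKerEquivOfSurjective _ hs)⟩

theorem exists_pgl {H : Type*} [Group H] {L : Subgroup H} [L.Normal]
    (hC : centralizer (L : Set H) = ⊥) {F : Type*} [Field F] [Finite F] (h2 : (2 : F) ≠ 0)
    (hF : ∀ σ : F ≃+* F, σ = 1) (e : L ≃* Matrix.ProjectiveSpecialLinearGroup (Fin 2) F) :
    L = ⊤ ∨ (L.index = 2 ∧ Nonempty (H ≃* (GL (Fin 2) F ⧸ Subgroup.center (GL (Fin 2) F)))) := by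
  let R : GH.L2Aut.Rep F L := GH.L2Aut.Rep.ofEquiv h2 e
  obtain ⟨⟨E⟩, hgl⟩ := autEquiv R hF
  let φ : H →* MulAut L := MulAut.conjNormal
  have hφ : ∀ (h : H) (l : L), ((φ h l : L) : H) = h * l * h⁻¹ := fun h l => rfl
  have hinj : Function.Injective φ := by
    rw [injective_iff_map_eq_one]
    intro h hh
    have h1 : h ∈ centralizer (L : Set H) := by
      rw [mem_centralizer_iff]
      intro l hl
      have h3 := hφ h ⟨l, hl⟩
      rw [hh] at h3
      have h4 : l = h * l * h⁻¹ := h3
      nth_rw 1 [h4]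
      group
    rw [hC] at h1
    exact mem_bot.1 h1
  have hφL : ∀ l : L, φ l = MulAut.conj l := fun l => by
    ext m
    rfl
  have hmem : ∀ h : H, φ h ∈ (MulAut.conj : L →* MulAut L).range → h ∈ L := by
    rintro h ⟨l, hl⟩
    rw [← hφL] at hl
    rw [← hinj hl]
    exact l.2
  by_cases htop : L = ⊤
  · exact Or.inl htop
  right
  obtain ⟨a, ha⟩ : ∃ a, a ∉ L := by
    by_contra hcon
    push Not at hcon
    exact htop (eq_top_iff.2 fun g _ => hcon g)
  obtain ⟨ga, hga⟩ := hgl (φ a)
  have hns : ∀ h : H, h ∉ L → ∀ g : GL (Fin 2) F, φ h = R.gl g → ¬ IsSquare g.1.det := by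
    intro h hh g hg hsq
    exact hh (hmem h (by rw [hg]; exact R.gl_mem_inn.2 hsq))
  constructor
  · rw [index_eq_two_iff]
    refine ⟨a, fun b => ?_⟩
    by_cases hb : b ∈ L
    · refine Or.inr ⟨hb, fun hba => ha ?_⟩
      have := L.mul_mem (L.inv_mem hb) hba
      rwa [inv_mul_cancel_left] at this
    · refine Or.inl ⟨?_, hb⟩
      obtain ⟨gb, hgb⟩ := hgl (φ b)
      apply hmem
      rw [map_mul, hga, hgb, ← map_mul R.gl]
      apply R.gl_mem_inn.2
      rw [Units.val_mul, Matrix.det_mul]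
      exact isSquare_mul (hns b hb gb hgb) (hns a ha ga hga)
  · have hsurj : Function.Surjective φ := by
      intro α
      obtain ⟨g, hg⟩ := hgl α
      by_cases hsq : IsSquare g.1.det
      · obtain ⟨l, hl⟩ := R.gl_mem_inn.2 hsq
        exact ⟨l, by rw [hφL, hl, hg]⟩
      · have h3 : IsSquare (g * ga).1.det := by
          rw [Units.val_mul, Matrix.det_mul]
          exact isSquare_mul hsq (hns a ha ga hga)
        obtain ⟨l, hl⟩ := R.gl_mem_inn.2 h3
        refine ⟨l * a⁻¹, ?_⟩
        rw [map_mul φ, map_inv φ, hφL, hl, map_mul R.gl, ← hga, mul_inv_cancel_right, hg]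
    exact ⟨(MulEquiv.ofBijective φ ⟨hinj, hsurj⟩).trans E.symm⟩

end Cfsg.Agent.H435.Pgl
end
end
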